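import Groth.Agent.SurfRR.Divisors
import Groth.Agent.CurveReg.Nef
import Groth.Agent.Big.Split

/-!
# The sequence of a sum of two effective divisors
-/

set_option autoImplicit false
set_option linter.style.haveILetI false
set_option linter.unusedSectionVars false
set_option backward.isDefEq.respectTransparency false
set_option backward.isDefEq.respectTransparency.types false
set_option maxHeartbeats 1000000

universe u

open CategoryTheory CategoryTheory.Limits AlgebraicGeometry TopologicalSpace Opposite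

noncomputable section

namespace Groth.Agent.SurfRR.MulSeq

open Groth.Agent

variable {X : Scheme.{u}}

theorem ι_π (I : X.IdealSheafData) : ClSub.idealModι I ≫ ClSub.toSubscheme I = 0 := kernel.condition _

/-- `O ⊗ L ≅ L`. -/
def unitLeft (L : X.Modules) : CohB1.tensorMod (Coh.structureModule X) L ≅ L :=
  CurveTensor.commIso (Coh.structureModule X) L ≪≫ AmpleVan.twUnit.app L

theorem mulIdeal_comp (A B : X.IdealSheafData) :
    FMBase.mulIdeal A B ≫ ClSub.idealModι (A * B) =
      (AmpleVan.tw (ClSub.idealMod B)).map (ClSub.idealModι A) ≫ (unitLeft (ClSub.idealMod B)).hom ≫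
        ClSub.idealModι B := by
  refine AmpleVan.hom_ext_tmul (N := ClSub.idealMod B) fun U a c => ?_
  simp only [Scheme.Modules.Hom.comp_app, ConcreteCategory.comp_apply]
  erw [AmpleVan.map_tmul_left (ClSub.idealModι A) a c]
  have h : (unitLeft (ClSub.idealMod B)).hom.app U (InvX.tmul ((ClSub.idealModι A).app U a) c) =
      (OmegaSh.idealSect A U a) • c := CurveReg.structure_tmul (OmegaSh.idealSect A U a) c
  erw [h]
  refine Eq.trans ?_ (OmegaLib.idealSect_smul B U (OmegaSh.idealSect A U a) c).symm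
  exact FMBase.idealSect_mulIdeal A B U a c

/-- The third isomorphism sequence, for subobjects given by maps. -/
theorem exists_third {C : Type*} [Category C] [Abelian C] {A B O Q P R : C} (u : A ⟶ B) (p : B ⟶ Q) (hup : u ≫ p = 0)
    (hA : (ShortComplex.mk u p hup).Exact) [Epi p] (v : B ⟶ O) [Mono v] (q : O ⟶ P) [Epi q] (r : O ⟶ R) [Epi r]
    (huq : u ≫ v ≫ q = 0) (hvr : v ≫ r = 0)
    (hB : ∀ {W : C} (y : W ⟶ O), y ≫ r = 0 → ∃ z, z ≫ v = y)
    (hD : ∀ {W : C} (y : W ⟶ O), y ≫ q = 0 → ∃ z, z ≫ u ≫ v = y)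
    (hg : ∃ g : P ⟶ R, q ≫ g = r) :
    ∃ (f : Q ⟶ P) (g : P ⟶ R) (w : f ≫ g = 0), (ShortComplex.mk f g w).ShortExact ∧ q ≫ g = r := by
  obtain ⟨g, hg⟩ := hg
  let f := hA.desc (v ≫ q) huq
  have hf : p ≫ f = v ≫ q := hA.g_desc _ _
  have w : f ≫ g = 0 := by rw [← cancel_epi p, reassoc_of% hf, hg, hvr, comp_zero]
  haveI : Epi g := epi_of_epi_fac hg
  refine ⟨f, g, w, { exact := ?_, mono_f := ?_, epi_g := ‹_› }, hg⟩
  · refine (ShortComplex.exact_iff_exact_up_to_refinements _).2 fun {W} x hx => ?_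
    have hx' : x ≫ g = 0 := hx
    obtain ⟨W', π, hπ, y, hy⟩ := surjective_up_to_refinements_of_epi q x
    obtain ⟨z, hz⟩ := hB y (by rw [← hg, ← reassoc_of% hy, hx', comp_zero])
    exact ⟨W', π, hπ, z ≫ p, by
      show π ≫ x = _ ≫ f
      rw [Category.assoc, hf, hy, ← hz, Category.assoc]⟩
  · refine Preadditive.mono_of_cancel_zero _ fun {W} x hx => ?_
    have hx' : x ≫ f = 0 := hx
    obtain ⟨W', π, hπ, y, hy⟩ := surjective_up_to_refinements_of_epi p x
    obtain ⟨z, hz⟩ := hD (y ≫ v) (by rw [Category.assoc, ← hf, ← reassoc_of% hy, hx', comp_zero])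
    have hy2 : y = z ≫ u := by rw [← cancel_mono v, ← hz, Category.assoc]
    refine (cancel_epi π).1 ?_
    rw [comp_zero, hy, hy2, Category.assoc, hup, comp_zero]

/-- The sequence of a sum of two effective divisors. -/
theorem exists_seq (A B : X.IdealSheafData) (hA : BlowUp.IsEffCartierIdeal A) (hB : BlowUp.IsEffCartierIdeal B) :
    ∃ (f : CohB1.tensorMod (ClSub.quotMod A) (ClSub.idealMod B) ⟶ ClSub.quotMod (A * B))
      (g : ClSub.quotMod (A * B) ⟶ ClSub.quotMod B) (w : f ≫ g = 0), (ShortComplex.mk f g w).ShortExact ∧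
        ClSub.toSubscheme (A * B) ≫ g = ClSub.toSubscheme B := by
  let IB := ClSub.idealMod B
  let T := AmpleVan.tw IB
  let ℓ := unitLeft IB
  have hIA := Big.isInvertible_ideal hA
  have hIB := Big.isInvertible_ideal hB
  haveI : T.IsEquivalence := AmpleVan.isEquivalence_tw hIB
  haveI := CurvePoint.epi_toSubscheme (A * B)
  haveI := CurvePoint.epi_toSubscheme B
  haveI := FMBase.epi_mulIdeal A B
  haveI hm : IsIso (FMBase.mulIdeal A B) := H9Existence.isIso_of_epi_invertible
    (InvX.isInvertible_tensorMod hIA hIB) (Big.isInvertible_ideal (ModPairLib.isEffCartier_mul hA hB)) _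
  have hcomp := mulIdeal_comp A B
  have hA' := (Big.shortExact_ideal A).map_of_exact T
  have hB' := Big.shortExact_ideal B
  have hD' := Big.shortExact_ideal (A * B)
  haveI : Epi (T.map (ClSub.toSubscheme A)) := hA'.epi_g
  haveI : Mono (ClSub.idealModι B) := hB'.mono_f
  haveI := hA'.epi_g
  haveI := hD'.epi_g
  haveI := hB'.mono_f
  haveI := hD'.mono_f
  have hle : A * B ≤ B := fun U => by
    rw [Scheme.IdealSheafData.ideal_mul, Pi.mul_apply]
    exact Ideal.mul_le_right
  obtain ⟨j, hj⟩ := Big.exists_idealIncl hle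
  have hq : T.map (ClSub.idealModι A) ≫ (ℓ.hom ≫ ClSub.idealModι B) ≫ ClSub.toSubscheme (A * B) = 0 := by
    rw [← Category.assoc (T.map _)]
    erw [← hcomp]
    rw [Category.assoc, ι_π, comp_zero]
  have hup : T.map (ClSub.idealModι A) ≫ T.map (ClSub.toSubscheme A) = 0 := by rw [← T.map_comp, ι_π, T.map_zero]
  have hex : (ShortComplex.mk _ _ hup).Exact := hA'.exact
  have hvr : (ℓ.hom ≫ ClSub.idealModι B) ≫ ClSub.toSubscheme B = 0 := by rw [Category.assoc, ι_π, comp_zero]
  have hg : ∃ g, ClSub.toSubscheme (A * B) ≫ g = ClSub.toSubscheme B :=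
    ⟨hD'.exact.desc (ClSub.toSubscheme B)
      (show ClSub.idealModι (A * B) ≫ ClSub.toSubscheme B = 0 by rw [← hj, Category.assoc, ι_π, comp_zero]),
      hD'.exact.g_desc _ _⟩
  haveI : Mono (ℓ.hom ≫ ClSub.idealModι B) := inferInstance
  obtain ⟨f, g, w, h, hgg⟩ := exists_third _ _ hup hex (ℓ.hom ≫ ClSub.idealModι B) _ _ hq hvr
    (fun {W} y hy => ⟨hB'.exact.lift y hy ≫ ℓ.inv, by
      rw [Category.assoc, Iso.inv_hom_id_assoc]
      exact hB'.exact.lift_f y hy⟩)
    (fun {W} y hy => ⟨hD'.exact.lift y hy ≫ inv (FMBase.mulIdeal A B), by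
      rw [Category.assoc]
      erw [← hcomp]
      rw [IsIso.inv_hom_id_assoc]
      exact hD'.exact.lift_f y hy⟩) hg
  exact ⟨f, g, w, h, hgg⟩

end Groth.Agent.SurfRR.MulSeq
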