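import Groth.Agent.Big.Cartier
import Groth.Agent.Big.Split
import Groth.Agent.Big.Hodge
import Groth.Agent.Big.NumEq
import Groth.Agent.ExtShX.Divisor
import Groth.Agent.ExtShX.Codim
import Groth.Agent.Big.Kodaira
import Groth.Agent.CurveCohLib.Rank
import Groth.Agent.Div21Lib.StalkIdeal
import Groth.Agent.OmegaLib.IdealMod
import Groth.Agent.LC.DepthExt
import Groth.Agent.Alg6.AssDepth
import Groth.Agent.KFlatLib.Perfect.Tensor
import Groth.Agent.ZClosLib.Basic

/-!
# Finite intersections of two divisors on a Cohen–Macaulay surface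
-/

set_option autoImplicit false
set_option linter.style.haveILetI false
set_option linter.unusedSectionVars false
set_option backward.isDefEq.respectTransparency false
set_option backward.isDefEq.respectTransparency.types false
set_option maxHeartbeats 1000000

universe u

open CategoryTheory CategoryTheory.Limits AlgebraicGeometry TopologicalSpace Opposite
open Groth.Agent.H23.PicMul

noncomputable section

namespace Groth.Agent.SurfRR.FiniteInter

open Groth.Agent

variable {X : Scheme.{u}}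

/-- The stalk map `O_x → (O/I)_x`. -/
def toStalk (I : X.IdealSheafData) (x : X) : X.presheaf.stalk x →ₗ[X.presheaf.stalk x] ParShLib.stk (ClSub.quotMod I) x :=
  LinearMap.toSpanSingleton _ _
    ((ClSub.quotMod I).presheaf.germ ⊤ x trivial (1 : Γ(I.subscheme, I.subschemeι ⁻¹ᵁ ⊤)))

theorem toStalk_germ (I : X.IdealSheafData) {U : X.Opens} {x : X} (hx : x ∈ U) (a : Γ(X, U)) :
    toStalk I x (X.presheaf.germ U x hx a) =
      (ClSub.quotMod I).presheaf.germ U x hx (show Γ(ClSub.quotMod I, U) from I.subschemeι.app U a) := by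
  let one : Γ(ClSub.quotMod I, U) := (ClSub.quotMod I).presheaf.map (homOfLE le_top).op
    (1 : Γ(I.subscheme, I.subschemeι ⁻¹ᵁ ⊤))
  have h1 : (show Γ(I.subscheme, I.subschemeι ⁻¹ᵁ U) from one) = 1 :=
    map_one (I.subscheme.presheaf.map ((Opens.map I.subschemeι.base).map (homOfLE (le_top : U ≤ ⊤))).op).hom
  have h2 : (a • one : Γ(ClSub.quotMod I, U)) = (show Γ(ClSub.quotMod I, U) from I.subschemeι.app U a) := by
    show (I.subschemeι.app U a * (show Γ(I.subscheme, I.subschemeι ⁻¹ᵁ U) from one) :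
      Γ(I.subscheme, I.subschemeι ⁻¹ᵁ U)) = _
    rw [h1, mul_one]
  rw [← h2, QCoh.germ_smul']
  rw [toStalk, LinearMap.toSpanSingleton_apply]
  exact congrArg (X.presheaf.germ U x hx a • ·)
    ((ClSub.quotMod I).presheaf.germ_res_apply (homOfLE le_top) x hx _).symm

theorem toStalk_surjective (I : X.IdealSheafData) (x : X) : Function.Surjective (toStalk I x) := by
  intro q
  obtain ⟨V, hxV, s, rfl⟩ := (ClSub.quotMod I).presheaf.germ_exist q
  obtain ⟨W, hW, hxW, hWV⟩ := exists_isAffineOpen_mem_and_subset (show x ∈ V from hxV)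
  obtain ⟨r, hr⟩ := I.subschemeι_app_surjective ⟨W, hW⟩
    (show Γ(I.subscheme, I.subschemeι ⁻¹ᵁ W) from (ClSub.quotMod I).presheaf.map (homOfLE (show W ≤ V from hWV)).op s)
  refine ⟨X.presheaf.germ W x hxW r, (toStalk_germ I hxW r).trans ?_⟩
  rw [← (ClSub.quotMod I).presheaf.germ_res_apply (homOfLE (show W ≤ V from hWV)) x hxW s]
  exact congrArg ((ClSub.quotMod I).presheaf.germ W x hxW) hr

theorem toStalk_eq_zero_of_mem (I : X.IdealSheafData) {U : X.affineOpens} {x : X} (hx : x ∈ U.1) {a : Γ(X, U.1)}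
    (ha : a ∈ I.ideal U) : toStalk I x (X.presheaf.germ U.1 x hx a) = 0 := by
  rw [← I.ker_subschemeι_app, RingHom.mem_ker] at ha
  rw [toStalk_germ]
  exact (congrArg ((ClSub.quotMod I).presheaf.germ U.1 x hx) ha).trans (map_zero _)

theorem ker_toStalk (I : X.IdealSheafData) (x : X) : LinearMap.ker (toStalk I x) = Div21Lib.stI I x := by
  refine le_antisymm (fun r hr => ?_) (iSup_le fun U => Ideal.map_le_iff_le_comap.2 fun a ha => ?_)
  · obtain ⟨V, hxV, a, rfl⟩ := X.presheaf.exists_germ_eq (x := x) r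
    rw [LinearMap.mem_ker, toStalk_germ] at hr
    obtain ⟨W, hxW, i, _, hi⟩ := TopCat.Presheaf.germ_eq (C := AddCommGrpCat.{u})
      (ClSub.quotMod I).presheaf x hxV hxV _ 0 (hr.trans (map_zero _).symm)
    rw [map_zero] at hi
    obtain ⟨O, hO, hxO, hOW⟩ := exists_isAffineOpen_mem_and_subset (show x ∈ W from hxW)
    have hOW' : O ≤ W := hOW
    have hmem : X.presheaf.map (homOfLE (hOW'.trans (leOfHom i))).op a ∈ I.ideal ⟨O, hO⟩ := by
      rw [← I.ker_subschemeι_app, RingHom.mem_ker]
      have h2 := congrArg ((ClSub.quotMod I).presheaf.map (homOfLE hOW').op) hi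
      rw [map_zero, ← ConcreteCategory.comp_apply, ← Functor.map_comp] at h2
      exact (ConcreteCategory.congr_hom (I.subschemeι.naturality (homOfLE (hOW'.trans (leOfHom i))).op) a).trans h2
    have h3 := Div21Lib.germ_mem_stI I ⟨O, hO⟩ hmem hxO
    rwa [X.presheaf.germ_res_apply] at h3
  · exact toStalk_eq_zero_of_mem I U.2 ha

/-- The stalk of `O/I`. -/
def stalkQuotEquiv (I : X.IdealSheafData) (x : X) :
    (X.presheaf.stalk x ⧸ Div21Lib.stI I x) ≃ₗ[X.presheaf.stalk x] ParShLib.stk (ClSub.quotMod I) x :=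
  (Submodule.quotEquivOfEq _ _ (ker_toStalk I x).symm).trans
    ((toStalk I x).quotKerEquivOfSurjective (toStalk_surjective I x))

/-- No embedded point on a hypersurface in a two-dimensional Cohen–Macaulay local ring. -/
theorem maximalIdeal_notMem_ass {R : Type u} [CommRing R] [LocCoh.IsCohenMacaulayLocalRing R]
    (hdim : ringKrullDim R = 2) {g : R} (hg : g ∈ nonZeroDivisors R) (hgm : g ∈ IsLocalRing.maximalIdeal R)
    {N : Type u} [AddCommGroup N] [Module R N] (e : (R ⧸ Ideal.span {g}) ≃ₗ[R] N) :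
    IsLocalRing.maximalIdeal R ∉ associatedPrimes R N := by
  have hreg : IsSMulRegular R g := fun a b h => (mul_cancel_left_mem_nonZeroDivisors hg).1 h
  let e' : QuotSMulTop g R ≃ₗ[R] N := (Submodule.quotEquivOfEq _ _
    (by rw [← Submodule.ideal_span_singleton_smul, smul_eq_mul, Ideal.mul_top])).trans e
  haveI : Module.Finite R N := Module.Finite.equiv e'
  have h2 : LocCoh.depth R R = 2 := by
    have h := LocCoh.IsCohenMacaulayLocalRing.supportDim_eq_depth (R := R)
    rw [Module.supportDim_self_eq_ringKrullDim, hdim] at h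
    exact WithBot.coe_inj.1 h.symm
  refine Alg6.one_le_depth_iff.1 ?_
  have h := LC.idealDepth_quotSMulTop_add_one (IsLocalRing.maximalIdeal R) (M := R) hgm hreg
  rw [LC.idealDepth_congr _ e', ← LocCoh.depth.eq_1, ← LocCoh.depth.eq_1, h2] at h
  by_contra hn
  rw [not_le, Order.lt_one_iff] at hn
  rw [hn] at h
  norm_num at h

/-- Every point of `C ∩ D` is non-associated for `O_C`. -/
theorem not_isAssPoint_quotMod (k : Type u) [Field k] [X.Over (Spec (CommRingCat.of k))]
    [LocallyOfFiniteType (X ↘ Spec (CommRingCat.of k))]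
    (hdim : ∀ Z ∈ irreducibleComponents X, topologicalKrullDim Z = 2)
    (hCM : ∀ x : X, LocCoh.IsCohenMacaulayLocalRing (X.presheaf.stalk x))
    {C : X.IdealSheafData} (hC : BlowUp.IsEffCartierIdeal C) {x : X} (hx : IsClosed ({x} : Set X)) :
    ¬ Curv2.IsAssPoint (ClSub.quotMod C) x := by
  by_cases hxC : x ∈ C.support
  · haveI := hCM x
    obtain ⟨g, hg, hgI⟩ := Div21Lib.exists_stI_generator hC x
    let e := (Submodule.quotEquivOfEq _ _ hgI.symm).trans (stalkQuotEquiv C x)
    have hgm : g ∈ IsLocalRing.maximalIdeal (X.presheaf.stalk x) := by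
      by_contra h
      rw [IsLocalRing.mem_maximalIdeal, mem_nonunits_iff, not_not] at h
      haveI : Subsingleton (X.presheaf.stalk x ⧸ Ideal.span {g}) :=
        Ideal.Quotient.subsingleton_iff.2 (Ideal.span_singleton_eq_top.2 h)
      exact CurveCohLib.GlobGen.nontrivial_stalk_quotMod C hxC e.symm.toEquiv.subsingleton
    exact maximalIdeal_notMem_ass (ExtShX.dim_closedPoint (X ↘ Spec (CommRingCat.of k))
      (n := 2) hdim hx) hg hgm e
  · haveI := ParShLib.subsingleton_stalk_quotMod C hxC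
    intro h
    have h' := AssociatedPrimes.mem_iff.2 h
    rwa [associatedPrimes.eq_empty_of_subsingleton] at h'

/-- Automorphisms of `O` preserve ideals. -/
theorem ι_comp_end_comp_π (I : X.IdealSheafData) (α : Coh.structureModule X ⟶ Coh.structureModule X) :
    ClSub.idealModι I ≫ α ≫ ClSub.toSubscheme I = 0 := by
  refine Scheme.Modules.hom_ext _ _ fun U => ?_
  ext t
  show I.subschemeι.app U (α.app U (OmegaSh.idealSect I U t)) = 0
  let s : Γ(X, U) := OmegaSh.idealSect I U t
  let one : Γ(Coh.structureModule X, U) := (1 : Γ(X, U))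
  have h1 : (s • one : Γ(Coh.structureModule X, U)) = (show Γ(Coh.structureModule X, U) from s) := mul_one s
  have h2 : (show Γ(X, U) from α.app U (show Γ(Coh.structureModule X, U) from s)) =
      s * (show Γ(X, U) from α.app U one) :=
    (congrArg (α.app U) h1.symm).trans (Scheme.Modules.Hom.app_smul α s one)
  exact ((congrArg (I.subschemeι.app U) h2).trans (map_mul _ _ _)).trans (by
    rw [OmegaLib.subschemeι_app_idealSect, zero_mul])

theorem ι_π (I : X.IdealSheafData) : ClSub.idealModι I ≫ ClSub.toSubscheme I = 0 := kernel.condition _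

theorem ι_π_assoc (I : X.IdealSheafData) {G : X.Modules} (f : ClSub.quotMod I ⟶ G) :
    ClSub.idealModι I ≫ ClSub.toSubscheme I ≫ f = 0 := by
  rw [← Category.assoc, ι_π, zero_comp]

/-- A map killed by two ideals is killed by their sum. -/
theorem ι_sup_comp (C D : X.IdealSheafData) {G : X.Modules} (h : Coh.structureModule X ⟶ G)
    (hC : ClSub.idealModι C ≫ h = 0) (hD : ClSub.idealModι D ≫ h = 0) :
    ClSub.idealModι (C ⊔ D) ≫ h = 0 := by
  refine Scheme.Modules.hom_ext _ _ fun U => ?_
  ext t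
  refine QCoh.eq_zero_of_locally U _ fun p hp => ?_
  obtain ⟨V, hV, hpV, hVU⟩ := exists_isAffineOpen_mem_and_subset hp
  refine ⟨V, homOfLE (show V ≤ U from hVU), hpV, ?_⟩
  show G.presheaf.map _ ((Scheme.Modules.Hom.mapPresheaf (ClSub.idealModι (C ⊔ D) ≫ h)).app (op U) t) = 0
  rw [← ConcreteCategory.comp_apply, ← NatTrans.naturality, ConcreteCategory.comp_apply]
  let t' := (ClSub.idealMod (C ⊔ D)).presheaf.map (homOfLE (show V ≤ U from hVU)).op t
  show h.app V (OmegaSh.idealSect (C ⊔ D) V t') = 0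
  have hm := OmegaLib.idealSect_mem (C ⊔ D) ⟨V, hV⟩ t'
  rw [Scheme.IdealSheafData.ideal_sup, Pi.sup_apply, Submodule.mem_sup] at hm
  obtain ⟨a, ha, b, hb, hab⟩ := hm
  obtain ⟨a', rfl⟩ := OmegaLib.exists_of_mem C ⟨V, hV⟩ a ha
  obtain ⟨b', rfl⟩ := OmegaLib.exists_of_mem D ⟨V, hV⟩ b hb
  rw [← hab]
  refine (map_add (h.app V).hom _ _).trans ?_
  rw [show h.app V (OmegaSh.idealSect C V a') = 0 from congr(($(hC)).app V a'),
    show h.app V (OmegaSh.idealSect D V b') = 0 from congr(($(hD)).app V b'), add_zero]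

/-- `O ⊗ M ≅ M`, natural in `M`. -/
def leftUnit : (DCoh.tensorBi (X := X)).obj (Coh.structureModule X) ≅ 𝟭 X.Modules :=
  ((KFlatLib.tensorBiFlipIso X).app (Coh.structureModule X)).symm ≪≫ KFlatLib.tensorStructureIso X

/-- `O_C ⊗ O_D ≅ O_{C ∩ D}`. -/
theorem nonempty_tensor_quot (C D : X.IdealSheafData) :
    Nonempty (CohB1.tensorMod (ClSub.quotMod D) (ClSub.quotMod C) ≅ ClSub.quotMod (C ⊔ D)) := by
  let T := DCoh.tensorBi (X := X)
  let O := Coh.structureModule X
  let F := ClSub.quotMod C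
  let Z := C ⊔ D
  let ℓ := leftUnit (X := X)
  let u := AmpleVan.twUnit (X := X)
  haveI := CurvePoint.epi_toSubscheme C
  haveI := CurvePoint.epi_toSubscheme D
  haveI := CurvePoint.epi_toSubscheme Z
  haveI : PreservesFiniteColimits (AmpleVan.tw F) := PreservesColimitsOfSize.preservesFiniteColimits _
  haveI hp : ∀ A : X.Modules, PreservesColimitsOfSize.{u, u} (T.obj A) := fun A =>
    ⟨fun {K} _ => preservesColimitsOfShape_of_natIso ((KFlatLib.tensorBiFlipIso X).app A)⟩
  haveI hpc : ∀ A : X.Modules, PreservesFiniteColimits (T.obj A) := fun A =>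
    PreservesColimitsOfSize.preservesFiniteColimits _
  -- the cokernel presentation of `O_D ⊗ O_C`
  let S := (ShortComplex.mk (ClSub.idealModι D) (ClSub.toSubscheme D) (kernel.condition _))
  haveI : Epi (S.map (AmpleVan.tw F)).g := inferInstanceAs (Epi ((AmpleVan.tw F).map (ClSub.toSubscheme D)))
  have hS := (ExtShX.shortExact_toSubscheme D).exact.map_of_epi_of_preservesCokernel (AmpleVan.tw F)
    (CurvePoint.epi_toSubscheme D) inferInstance
  let q : (AmpleVan.tw F).obj O ⟶ (AmpleVan.tw F).obj (ClSub.quotMod D) := (AmpleVan.tw F).map (ClSub.toSubscheme D)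
  -- the surjection from `O`
  let h : O ⟶ (AmpleVan.tw F).obj (ClSub.quotMod D) :=
    ℓ.inv.app O ≫ (T.obj O).map (ClSub.toSubscheme C) ≫ q
  haveI : Epi ((T.obj O).map (ClSub.toSubscheme C)) := inferInstance
  haveI : Epi h := inferInstance
  -- the comparison of the two units at `O`
  let β : O ⟶ O := ℓ.inv.app O ≫ u.hom.app O
  have hC : ClSub.idealModι C ≫ h = 0 := by
    have n := ℓ.inv.naturality (ClSub.idealModι C)
    rw [Functor.id_map] at n
    rw [reassoc_of% n, ← Functor.map_comp_assoc, ι_π, Functor.map_zero, zero_comp, comp_zero]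
  have hD : ClSub.idealModι D ≫ h = 0 := by
    let j : ClSub.idealMod D ⟶ ClSub.idealMod D := kernel.lift _ (ClSub.idealModι D ≫ β)
      (by rw [Category.assoc]; exact ι_comp_end_comp_π D β)
    have hj : ClSub.idealModι D ≫ β = j ≫ ClSub.idealModι D := (kernel.lift_ι _ _ _).symm
    have n := u.inv.naturality (ClSub.idealModι D)
    rw [Functor.id_map] at n
    have n2 := (T.map (ClSub.idealModι D)).naturality (ClSub.toSubscheme C)
    have e : h = β ≫ u.inv.app O ≫ (T.obj O).map (ClSub.toSubscheme C) ≫ q := by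
      simp only [h, β, Category.assoc, Iso.hom_inv_id_app_assoc]
    rw [e, reassoc_of% hj, reassoc_of% n]
    show j ≫ u.inv.app _ ≫ (T.map (ClSub.idealModι D)).app O ≫ (T.obj O).map (ClSub.toSubscheme C) ≫ q = 0
    rw [← reassoc_of% n2]
    show j ≫ u.inv.app _ ≫ _ ≫ (AmpleVan.tw F).map (ClSub.idealModι D) ≫ (AmpleVan.tw F).map (ClSub.toSubscheme D) = 0
    rw [← Functor.map_comp, ι_π, Functor.map_zero, comp_zero, comp_zero, comp_zero]
  let g : ClSub.quotMod Z ⟶ (AmpleVan.tw F).obj (ClSub.quotMod D) :=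
    (ExtShX.shortExact_toSubscheme Z).exact.desc h (ι_sup_comp C D h hC hD)
  have hg : ClSub.toSubscheme Z ≫ g = h := (ExtShX.shortExact_toSubscheme Z).exact.g_desc _ _
  -- the map back
  obtain ⟨iC, hiC⟩ := Big.exists_idealIncl (le_sup_left : C ≤ Z)
  obtain ⟨iD, hiD⟩ := Big.exists_idealIncl (le_sup_right : D ≤ Z)
  let w : F ⟶ ClSub.quotMod Z := (ExtShX.shortExact_toSubscheme C).exact.desc (ClSub.toSubscheme Z)
    (show ClSub.idealModι C ≫ ClSub.toSubscheme Z = 0 by rw [← hiC, Category.assoc, ι_π, comp_zero])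
  have hw : ClSub.toSubscheme C ≫ w = ClSub.toSubscheme Z := (ExtShX.shortExact_toSubscheme C).exact.g_desc _ _
  have nℓ := ℓ.hom.naturality (ClSub.toSubscheme C)
  rw [Functor.id_map] at nℓ
  have hv0 : (AmpleVan.tw F).map (ClSub.idealModι D) ≫ ℓ.hom.app F ≫ w = 0 := by
    haveI : Epi ((T.obj (ClSub.idealMod D)).map (ClSub.toSubscheme C)) := inferInstance
    rw [← cancel_epi ((T.obj (ClSub.idealMod D)).map (ClSub.toSubscheme C)), comp_zero]
    have n2 := (T.map (ClSub.idealModι D)).naturality (ClSub.toSubscheme C)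
    have n := u.hom.naturality (ClSub.idealModι D)
    rw [Functor.id_map] at n
    show _ ≫ (T.map (ClSub.idealModι D)).app F ≫ _ = 0
    rw [reassoc_of% n2, reassoc_of% nℓ, hw]
    have e : ℓ.hom.app O ≫ ClSub.toSubscheme Z = u.hom.app O ≫ (u.inv.app O ≫ ℓ.hom.app O) ≫ ClSub.toSubscheme Z := by
      simp only [Category.assoc, Iso.hom_inv_id_app_assoc]
    rw [e]
    show (AmpleVan.tw O).map (ClSub.idealModι D) ≫ _ = 0
    rw [reassoc_of% n, ← hiD]
    simp only [Category.assoc]
    have e2 := ι_comp_end_comp_π Z (u.inv.app O ≫ ℓ.hom.app O)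
    rw [Category.assoc] at e2
    rw [e2, comp_zero, comp_zero]
  let v : (AmpleVan.tw F).obj (ClSub.quotMod D) ⟶ ClSub.quotMod Z := hS.desc (ℓ.hom.app F ≫ w) hv0
  have hv : q ≫ v = ℓ.hom.app F ≫ w := hS.g_desc _ _
  have hgv : g ≫ v = 𝟙 _ := by
    rw [← cancel_epi (ClSub.toSubscheme Z), reassoc_of% hg, Category.comp_id]
    simp only [h, Category.assoc, hv]
    rw [reassoc_of% nℓ, hw, Iso.inv_hom_id_app_assoc]
  haveI : Epi g := epi_of_epi_fac hg
  refine ⟨{ hom := v, inv := g, hom_inv_id := ?_, inv_hom_id := hgv }⟩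
  rw [← cancel_epi g, reassoc_of% hgv]
  exact (Category.comp_id g).symm

/-- Two divisors meeting in finitely many points on a Cohen–Macaulay surface. -/
theorem intNum_eq_finrank_inter (k : Type u) [Field k] [X.Over (Spec (CommRingCat.of k))]
    [IsProper (X ↘ Spec (CommRingCat.of k))]
    (hdim : ∀ Z ∈ irreducibleComponents X, topologicalKrullDim Z = 2)
    (hCM : ∀ x : X, LocCoh.IsCohenMacaulayLocalRing (X.presheaf.stalk x))
    {C D : X.IdealSheafData} (hC : BlowUp.IsEffCartierIdeal C) (hD : BlowUp.IsEffCartierIdeal D)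
    (hfin : ((C ⊔ D).support : Set X).Finite) :
    FGA.intNum k X 2 ![ClSub.idealMod C, ClSub.idealMod D] (Coh.structureModule X) =
      (Module.finrank k (Coh.HH X (ClSub.quotMod (C ⊔ D)) 0) : ℤ) := by
  haveI := CurveCohLib.isNoetherian_of_proper (k := k) (X := X)
  haveI : JacobsonSpace X := LocallyOfFiniteType.jacobsonSpace (X ↘ Spec (CommRingCat.of k))
  have hdimX : topologicalKrullDim X ≤ 2 := by
    rw [H23.TopDim.dim_eq_iSup_irreducibleComponents]
    exact iSup₂_le fun Z hZ => (hdim Z hZ).le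
  have hclosed : ∀ x ∈ ((C ⊔ D).support : Set X), IsClosed ({x} : Set X) := by
    have h := JacobsonSpace.closure_inter_closedPoints_eq_closure (S := ((C ⊔ D).support : Set X))
      (C ⊔ D).support.isClosed.isLocallyClosed
    rw [(C ⊔ D).support.isClosed.closure_eq] at h
    have hc : IsClosed (((C ⊔ D).support : Set X) ∩ closedPoints X) := by
      rw [← Set.biUnion_of_singleton (((C ⊔ D).support : Set X) ∩ closedPoints X)]
      exact (hfin.inter_of_left _).isClosed_biUnion fun y hy => hy.2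
    rw [hc.closure_eq] at h
    exact fun x hx => (h.ge hx).2
  have hCI := Big.isInvertible_ideal hC
  have hDI := Big.isInvertible_ideal hD
  haveI : Mono ((AmpleVan.tw (Coh.structureModule X)).map (ClSub.idealModι C)) := by
    haveI := AmpleVan.isEquivalence_tw (CurveDeg.isInvertible_structureModule (X := X))
    haveI : Mono (ClSub.idealModι C) := inferInstanceAs (Mono (kernel.ι _))
    infer_instance
  have h1 : Big.pair k (ClSub.idealMod C) (ClSub.idealMod D) =
      Big.alt k ![ClSub.idealMod D] (ClSub.quotMod C) :=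
    (Big.alt_cons_ideal k (M := ![ClSub.idealMod D]) (fun i => by fin_cases i; exact hDI)
      (QCoh.isCoh_structureModule' (X := X)) hCI).trans (Big.alt_congr_cl k (fun _ => rfl) (by
        rw [cl_tensor, Big.one_mul_cl]))
  have hass : ∀ x ∈ D.support, ¬ Curv2.IsAssPoint (ClSub.quotMod C) x := fun x hx => by
    by_cases hxC : x ∈ C.support
    · exact not_isAssPoint_quotMod k hdim hCM hC
        (hclosed x (by rw [Scheme.IdealSheafData.support_sup]; exact ⟨hxC, hx⟩))
    · exact fun h => hxC (Big.support_quotMod_subset C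
        (AssPtX.mem_support_of_isWeakAssPoint (AssPtX.isAssPoint_iff.1 h)))
  haveI := Big.mono_tw_ideal hD (ParShLib.isCoh_quotMod C) hass
  have h2 : Big.alt k ![ClSub.idealMod D] (ClSub.quotMod C) =
      (Curv2.euler k X (CohB1.tensorMod (ClSub.quotMod C) (ClSub.quotMod D)) : ℚ) :=
    (Big.alt_cons_ideal k (M := ![]) (fun i => i.elim0) (ParShLib.isCoh_quotMod C) hDI).trans
      (Big.alt_empty k _ _)
  obtain ⟨c⟩ := H23.PicMul.comm (ClSub.quotMod C) (ClSub.quotMod D)
  obtain ⟨e⟩ := nonempty_tensor_quot C D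
  have h4 : Curv2.euler k X (CohB1.tensorMod (ClSub.quotMod C) (ClSub.quotMod D)) =
      Curv2.euler k X (ClSub.quotMod (C ⊔ D)) := CurveCohLib.euler_congr (c ≪≫ e)
  have h5 := CurveCohLib.euler_eq_finrank_zero (k := k) (ParShLib.isCoh_quotMod (C ⊔ D))
    fun x hx => hclosed x (Big.support_quotMod_subset _ hx)
  have h6 := Big.intNum_eq_pair k hdimX hCI hDI
  rw [h1, h2, h4, h5] at h6
  exact_mod_cast h6

end Groth.Agent.SurfRR.FiniteInter
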