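import Groth.Agent.SurfRR.CurveNum
import Groth.Agent.Big.Connected
import Groth.Agent.Big.Positive
import Groth.Agent.Big.RealEff
import Groth.Agent.Big.NumEq

/-!
# Effective classes on a surface against an ample one
-/

set_option linter.style.haveILetI false
set_option linter.unusedSectionVars false
set_option backward.isDefEq.respectTransparency false
set_option backward.isDefEq.respectTransparency.types false

universe u

open CategoryTheory CategoryTheory.Limits AlgebraicGeometry TopologicalSpace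
open Groth.Agent.H23.PicMul

noncomputable section

namespace Groth.Agent.SurfRR

open Groth.Agent

theorem cl_idealMod_of_support_empty {X : Scheme.{u}} {D : X.IdealSheafData} (h : (D.support : Set X) = ∅) :
    PicF.cl (ClSub.idealMod D) = 1 := by
  have h0 : ClSub.toSubscheme D = 0 := by
    refine Scheme.Modules.hom_ext _ _ fun U => ?_
    haveI : Subsingleton Γ(ClSub.quotMod D, U) := by
      show Subsingleton Γ(D.subscheme, D.subschemeι ⁻¹ᵁ U)
      rw [show D.subschemeι ⁻¹ᵁ U = ⊥ from eq_bot_iff.2 fun z _ => by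
        have : D.subschemeι z ∈ (D.support : Set X) := by rw [← D.range_subschemeι]; exact ⟨z, rfl⟩
        rw [h] at this; exact this.elim]
      infer_instance
    ext x
    exact Subsingleton.elim (α := Γ(ClSub.quotMod D, U)) _ _
  haveI : IsIso (ClSub.idealModι D) := by
    show IsIso (kernel.ι (ClSub.toSubscheme D))
    rw [h0]
    infer_instance
  rw [cl_eq_iff.2 ⟨asIso (ClSub.idealModι D)⟩, H23.PicMul.one_def]

variable (k : Type u) [Field k] {X : Scheme.{u}} [X.Over (Spec (CommRingCat.of k))]
  [IsProper (X ↘ Spec (CommRingCat.of k))] [IsIntegral X]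

/-- A nonempty effective divisor is negative against an ample module through its ideal. -/
theorem intNum_ideal_ample_neg (hdim : topologicalKrullDim X = 2) {D : X.IdealSheafData}
    (hD : BlowUp.IsEffCartierIdeal D) (hne : (D.support : Set X).Nonempty) {H : X.Modules} (hH : CohB1.IsAmple H) :
    FGA.intNum k X 2 ![ClSub.idealMod D, H] (Coh.structureModule X) < 0 := by
  haveI : IsNoetherian X := CurveCohLib.isNoetherian_of_proper (k := k)
  obtain ⟨H', hH', ⟨e⟩⟩ := H23.PicInv.exists_inverse hH.1
  have hHH' := Big.cl_mul_eq_one ⟨e⟩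
  obtain ⟨η, hη, hηd⟩ := Big.exists_curve_point k hdim hD hne
  have hI := Big.isInvertible_ideal hD
  have hpos : 0 < Big.pair k (ClSub.idealMod D) H' := by
    rw [Big.pair_ideal k hD hH']
    exact Big.alt_pos_of_components k (Big.pos k 1) (L := ![H]) (M := ![H'])
      (fun j => by fin_cases j; exact hH) (fun j => by fin_cases j; exact hH')
      (fun j => by fin_cases j; exact hHH') (ParShLib.isCoh_quotMod D)
      ((H23.TopDim.dim_le_dim_of_subset (Big.support_quotMod_subset _)).trans
        (Big.dim_support_le k hD (e := 1) hdim.le)) hη hηd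
  have h2 := Big.pair_inverse k hdim.le hH.1 hH' hHH' hI
  rw [Big.pair_symm k (L := H') , Big.pair_symm k (L := H)] at h2
  have h : (FGA.intNum k X 2 ![ClSub.idealMod D, H] (Coh.structureModule X) : ℚ) < 0 := by
    rw [Big.intNum_eq_pair k hdim.le hI hH.1]
    linarith
  exact_mod_cast h

/-- A module with a section is trivial or positive against an ample module. -/
theorem intNum_pos_of_section (hdim : topologicalKrullDim X = 2) {L : X.Modules} (hL : PicF.IsInvertible L)
    (hsec : Nontrivial (Coh.HH X L 0)) {H : X.Modules} (hH : CohB1.IsAmple H) :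
    PicF.cl L = 1 ∨ 0 < FGA.intNum k X 2 ![L, H] (Coh.structureModule X) := by
  haveI : IsNoetherian X := CurveCohLib.isNoetherian_of_proper (k := k)
  haveI := CurveCohLib.finite_HH (k := k) (AmpleVan.isCoh_invertible hL) 0
  obtain ⟨s, hs⟩ := Big.exists_hom_of_h0_pos k (M := L) Module.finrank_pos
  obtain ⟨D, hD, hcl⟩ := Big.RealForm.exists_divisor_of_section hL s hs
  rcases (D.support : Set X).eq_empty_or_nonempty with h | h
  · left
    rw [cl_idealMod_of_support_empty h, mul_one] at hcl
    exact hcl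
  · right
    have hI := Big.isInvertible_ideal hD
    have h1 := intNum_ideal_ample_neg k hdim hD h hH
    have h2 := intNum_inverse k hdim hI hL (by rw [mul_comm]; exact hcl) hH.1
    rw [Big.NegDef.dot_symm k hdim hH.1 hL, Big.NegDef.dot_symm k hdim hH.1 hI] at h2
    linarith

omit [IsIntegral X] in
/-- A module of negative degree on an integral curve has no sections there. -/
theorem subsingleton_quot_tensor {I : X.IdealSheafData} [IsIntegral I.subscheme]
    (hId : topologicalKrullDim (I.support : Set X) = 1) {M : X.Modules} (hM : PicF.IsInvertible M)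
    (hneg : Curv2.euler k X (CohB1.tensorMod (ClSub.quotMod I) M) - Curv2.euler k X (ClSub.quotMod I) < 0) :
    Subsingleton (Coh.HH X (CohB1.tensorMod (ClSub.quotMod I) M) 0) := by
  letI : I.subscheme.Over (Spec (CommRingCat.of k)) := ⟨I.subschemeι ≫ (X ↘ Spec (CommRingCat.of k))⟩
  haveI : IsProper (I.subscheme ↘ Spec (CommRingCat.of k)) :=
    inferInstanceAs (IsProper (I.subschemeι ≫ (X ↘ Spec (CommRingCat.of k))))
  haveI : IsNoetherian I.subscheme := CurveCohLib.isNoetherian_of_proper (k := k)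
  have hd : topologicalKrullDim I.subscheme = 1 :=
    (AmpleDev.dim_eq_one_of_closedImmersion I.subschemeι I.range_subschemeι).trans hId
  rw [AmpleDev.euler_sub_eq_deg k I hM] at hneg
  let M' := (Scheme.Modules.pullback I.subschemeι).obj M
  have hM' : PicF.IsInvertible M' := PicClLib.isInvertible_pullback _ hM
  obtain ⟨e⟩ := AmpleDev.push_tensor_iso I.subschemeι hM (Coh.structureModule I.subscheme)
  obtain ⟨φ⟩ : Nonempty (CohB1.tensorMod (Coh.structureModule I.subscheme) M' ≅ M') := cl_eq_iff.1 (by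
    rw [cl_tensor, ← H23.PicMul.one_def, one_mul])
  have h0 : Subsingleton (Coh.HH I.subscheme M' 0) := by
    haveI := CurveCohLib.finite_HH (k := k) (CurveDeg.isCoh_of_isInvertible hM') 0
    refine (Module.finrank_zero_iff (R := k)).1 ?_
    by_contra h0
    obtain ⟨s, hs⟩ := CurveRR.exists_hom_ne_zero k (P := M') h0
    have h1 := (CurveDeg.euler_le_and_isIso k hd.le CurveDeg.isInvertible_structureModule hM' s hs).1
    have h2 : Curv2.deg k I.subscheme M' 1 = Curv2.euler k I.subscheme M' - Curv2.euler k I.subscheme (Coh.structureModule I.subscheme) := by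
      simp [Curv2.deg]
    change Curv2.deg k I.subscheme M' 1 < 0 at hneg
    omega
  obtain ⟨l⟩ := PnCoh.exists_linearEquiv_push k I.subschemeι rfl (ProjUPX.isQCoh_of_isInvertible hM') 0
  exact QCoh.subsingleton_HH_of_iso (e ≪≫ (Coh.push I.subschemeι).mapIso φ).symm 0 l.symm.toEquiv.subsingleton

/-- Sections pass to the twist by a curve on which the degree is negative. -/
theorem nontrivial_tensor_ideal (hdim : topologicalKrullDim X = 2) {I : X.IdealSheafData} [IsIntegral I.subscheme]
    (hId : topologicalKrullDim (I.support : Set X) = 1) (hI : PicF.IsInvertible (ClSub.idealMod I)) {M : X.Modules}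
    (hM : PicF.IsInvertible M) (hpos : 0 < FGA.intNum k X 2 ![ClSub.idealMod I, M] (Coh.structureModule X))
    (hsec : Nontrivial (Coh.HH X M 0)) :
    Nontrivial (Coh.HH X (CohB1.tensorMod (ClSub.idealMod I) M) 0) := by
  haveI : IsNoetherian X := CurveCohLib.isNoetherian_of_proper (k := k)
  rw [Big.NegDef.dot_eq_euler k hdim hI hM] at hpos
  have hq := subsingleton_quot_tensor k hId hM (by linarith)
  by_contra hcon
  rw [not_nontrivial_iff_subsingleton] at hcon
  have hl := H23.PullPush.isFinLocFree_of_isInvertible hM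
  have hSI := ExtShX.shortExact_toSubscheme I
  haveI := hsec
  haveI : Subsingleton (Coh.HH X M 0) := QCoh.subsingleton_HH_of_iso (KFlatLib.tensorUnitIso M) 0
    (QCoh.subsingleton_HH_X₂ (CurveTensor.shortExact_tensor hl _ _ _ hSI) 0
      (QCoh.subsingleton_HH_of_iso (CurveTensor.commIso M (ClSub.idealMod I)).symm 0 hcon)
      (QCoh.subsingleton_HH_of_iso (CurveTensor.commIso M (ClSub.quotMod I)).symm 0 hq))
  exact false_of_nontrivial_of_subsingleton (Coh.HH X M 0)

/-- A curve of negative canonical degree on a surface with a pluricanonical section has negative square. -/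
theorem selfInt_neg_of_section (hdim : topologicalKrullDim X = 2) {I : X.IdealSheafData} [IsIntegral I.subscheme]
    (hId : topologicalKrullDim (I.support : Set X) = 1) (hI : BlowUp.IsEffCartierIdeal I)
    {L : X.Modules} (hL : PicF.IsInvertible L) (hsec : Nontrivial (Coh.HH X L 0))
    (hpos : 0 < FGA.intNum k X 2 ![ClSub.idealMod I, L] (Coh.structureModule X))
    {H : X.Modules} (hH : CohB1.IsAmple H) :
    FGA.intNum k X 2 ![ClSub.idealMod I, ClSub.idealMod I] (Coh.structureModule X) < 0 := by
  let J := ClSub.idealMod I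
  have hJ : PicF.IsInvertible J := Big.isInvertible_ideal hI
  by_contra hII
  rw [not_lt] at hII
  have hne : (I.support : Set X).Nonempty := by
    rw [← I.range_subschemeι]
    exact ⟨_, genericPoint I.subscheme, rfl⟩
  have hadd : ∀ {A B C : X.Modules}, PicF.IsInvertible A → PicF.IsInvertible B → PicF.IsInvertible C →
      FGA.intNum k X 2 ![C, CohB1.tensorMod A B] (Coh.structureModule X) =
        FGA.intNum k X 2 ![C, A] (Coh.structureModule X) + FGA.intNum k X 2 ![C, B] (Coh.structureModule X) := by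
    intro A B C hA hB hC
    rw [Big.NegDef.dot_symm k hdim hC (InvX.isInvertible_tensorMod hA hB), Big.NegDef.dot_symm k hdim hC hA,
      Big.NegDef.dot_symm k hdim hC hB]
    have h := Big.pair_add k hdim.le hA hB hC
    rw [← Big.intNum_eq_pair k hdim.le (InvX.isInvertible_tensorMod hA hB) hC,
      ← Big.intNum_eq_pair k hdim.le hA hC, ← Big.intNum_eq_pair k hdim.le hB hC] at h
    exact_mod_cast h
  have hH0 := intNum_ideal_ample_neg k hdim hI hne hH
  rw [Big.NegDef.dot_symm k hdim hJ hH.1] at hH0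
  have key : ∀ n : ℕ, ∃ M : X.Modules, PicF.IsInvertible M ∧ Nontrivial (Coh.HH X M 0) ∧
      0 < FGA.intNum k X 2 ![J, M] (Coh.structureModule X) ∧
      FGA.intNum k X 2 ![H, M] (Coh.structureModule X) ≤ FGA.intNum k X 2 ![H, L] (Coh.structureModule X) - n := by
    intro n
    induction n with
    | zero => exact ⟨L, hL, hsec, hpos, by simp⟩
    | succ n ih =>
      obtain ⟨M, hM, h1, h2, h3⟩ := ih
      refine ⟨CohB1.tensorMod J M, InvX.isInvertible_tensorMod hJ hM,
        nontrivial_tensor_ideal k hdim hId hJ hM h2 h1, ?_, ?_⟩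
      · rw [hadd hJ hM hJ]
        linarith
      · rw [hadd hJ hM hH.1]
        push_cast
        linarith
  obtain ⟨M, hM, h1, h2, h3⟩ := key ((FGA.intNum k X 2 ![H, L] (Coh.structureModule X)).toNat + 1)
  have h4 : FGA.intNum k X 2 ![H, M] (Coh.structureModule X) < 0 := by
    have := Int.self_le_toNat (FGA.intNum k X 2 ![H, L] (Coh.structureModule X))
    push_cast at h3
    linarith
  rcases intNum_pos_of_section k hdim hM h1 hH with h | h
  · have hz : Big.pair k H M = 0 := by
      rw [Big.pair_symm, Big.pair_congr k (L' := Coh.structureModule X) (h.trans (H23.PicMul.one_def)),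
        Big.pair_one k hdim.le hH.1]
    rw [← Big.intNum_eq_pair k hdim.le hH.1 hM] at hz
    have : FGA.intNum k X 2 ![H, M] (Coh.structureModule X) = 0 := by exact_mod_cast hz
    linarith
  · rw [Big.NegDef.dot_symm k hdim hM hH.1] at h
    linarith

/-- A numerically trivial module is orthogonal to effective divisors. -/
theorem pair_ideal_numEquivZero (hdim : topologicalKrullDim X = 2) {D : X.IdealSheafData}
    (hD : BlowUp.IsEffCartierIdeal D) {L : X.Modules} (hL : PicF.IsInvertible L)
    (hnum : Pic13.IsNumEquivZero k X L) : Big.pair k (ClSub.idealMod D) L = 0 := by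
  haveI := CurveCohLib.isNoetherian_of_proper (k := k) (X := X)
  rw [Big.pair_ideal k hD hL]
  have hQc := ParShLib.isCoh_quotMod D
  let T : Closeds X := ⟨_, QCoh.isClosed_support_of_isFT hQc.1 hQc.2⟩
  have hTd : topologicalKrullDim ↥(T : Set X) ≤ ((1 : ℕ) : WithBot ℕ∞) :=
    (H23.TopDim.dim_le_dim_of_subset (Big.support_quotMod_subset D)).trans (Big.dim_support_le k hD (e := 1) hdim.le)
  have hfin := Snapper.finite_topPts hTd
  rw [Big.alt_components k (M := ![L]) (fun i => by fin_cases i; exact hL) hQc hTd subset_rfl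
    hfin.toFinset fun ξ => hfin.mem_toFinset]
  refine Finset.sum_eq_zero fun ξ hξ => mul_eq_zero_of_right _ ?_
  obtain ⟨-, hξd⟩ := hfin.mem_toFinset.1 hξ
  let W := Scheme.IdealSheafData.vanishingIdeal (⟨closure ({ξ} : Set X), isClosed_closure⟩ : Closeds X)
  haveI : IsIntegral W.subscheme := QCoh.isIntegral_closure_point ξ
  have hWd : topologicalKrullDim W.subscheme = 1 :=
    ((AmpleDev.dim_eq_one_of_closedImmersion W.subschemeι (H23.RedSub.range_vanishingIdeal _)).trans hξd).trans
      Nat.cast_one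
  have h := Big.curveDeg_eq k W.subschemeι (hWd.trans Nat.cast_one.symm).le hL
  rw [hnum _ W.subschemeι inferInstance hWd, Int.cast_zero] at h
  have h' : -Big.alt k ![L] (Snapper.clMod ξ) = 0 := h.symm
  linarith

/-- A numerically trivial module is orthogonal to ample modules. -/
theorem intNum_numEquivZero_ample (hdim : topologicalKrullDim X = 2) {L : X.Modules} (hL : PicF.IsInvertible L)
    (hnum : Pic13.IsNumEquivZero k X L) {H : X.Modules} (hH : CohB1.IsAmple H) :
    FGA.intNum k X 2 ![L, H] (Coh.structureModule X) = 0 := by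
  haveI := CurveCohLib.isNoetherian_of_proper (k := k) (X := X)
  obtain ⟨a, ha, s, hs⟩ := Big.exists_section_twist k (d := 2) hdim.le hH (CurveDeg.isInvertible_structureModule (X := X))
  have hP := InvX.isInvertible_tensorMod (CurveDeg.isInvertible_structureModule (X := X))
    (InvX.isInvertible_tensorPow hH.1 a)
  obtain ⟨D, hD, hcl⟩ := Big.RealForm.exists_divisor_of_section hP s hs
  have hI := Big.isInvertible_ideal hD
  have h0 := pair_ideal_numEquivZero k hdim hD hL hnum
  rw [Big.pair_inverse k hdim.le hP hI hcl hL, neg_eq_zero,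
    Big.pair_congr k (L' := CohB1.tensorPow H a) (by rw [cl_tensor, Big.one_mul_cl]),
    Big.pair_pow k hdim.le hH.1 hL a] at h0
  have h1 := (mul_eq_zero.1 h0).resolve_left (Nat.cast_ne_zero.2 ha.ne')
  rw [Big.pair_symm, ← Big.intNum_eq_pair k hdim.le hL hH.1] at h1
  exact_mod_cast h1

/-- Nef modules pair nonnegatively with effective divisors. -/
theorem pair_ideal_nef (hdim : topologicalKrullDim X = 2) {D : X.IdealSheafData}
    (hD : BlowUp.IsEffCartierIdeal D) {L : X.Modules} (hL : PicF.IsInvertible L)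
    (hnef : ∀ C : X.IdealSheafData, IsIntegral C.subscheme → topologicalKrullDim (C.support : Set X) = 1 →
      0 ≤ Curv2.euler k X (CohB1.tensorMod (ClSub.quotMod C) L) - Curv2.euler k X (ClSub.quotMod C)) :
    Big.pair k (ClSub.idealMod D) L ≤ 0 := by
  haveI := CurveCohLib.isNoetherian_of_proper (k := k) (X := X)
  rw [Big.pair_ideal k hD hL]
  have hQc := ParShLib.isCoh_quotMod D
  let T : Closeds X := ⟨_, QCoh.isClosed_support_of_isFT hQc.1 hQc.2⟩
  have hTd : topologicalKrullDim ↥(T : Set X) ≤ ((1 : ℕ) : WithBot ℕ∞) :=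
    (H23.TopDim.dim_le_dim_of_subset (Big.support_quotMod_subset D)).trans (Big.dim_support_le k hD (e := 1) hdim.le)
  have hfin := Snapper.finite_topPts hTd
  rw [Big.alt_components k (M := ![L]) (fun i => by fin_cases i; exact hL) hQc hTd subset_rfl
    hfin.toFinset fun ξ => hfin.mem_toFinset]
  refine Finset.sum_nonpos fun ξ hξ => mul_nonpos_of_nonneg_of_nonpos (Nat.cast_nonneg _) ?_
  obtain ⟨-, hξd⟩ := hfin.mem_toFinset.1 hξ
  let W := Scheme.IdealSheafData.vanishingIdeal (⟨closure ({ξ} : Set X), isClosed_closure⟩ : Closeds X)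
  have hWd : topologicalKrullDim (W.support : Set X) = 1 := by
    rw [← Scheme.IdealSheafData.range_subschemeι, H23.RedSub.range_vanishingIdeal]
    exact hξd.trans Nat.cast_one
  have h := hnef W (QCoh.isIntegral_closure_point ξ) hWd
  have h1 : (0 : ℚ) ≤ Big.cdeg k W.subschemeι L := by
    rw [Big.cdeg_eq]
    exact_mod_cast h
  have h2 : Big.cdeg k W.subschemeι L = -Big.alt k ![L] (Snapper.clMod ξ) := rfl
  linarith

/-- Nef modules pair nonnegatively with classes of positive square and degree. -/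
theorem pair_nef_pos (hdim : topologicalKrullDim X = 2) {H : X.Modules} (hH : CohB1.IsAmple H)
    {N : X.Modules} (hN : PicF.IsInvertible N)
    (hnef : ∀ C : X.IdealSheafData, IsIntegral C.subscheme → topologicalKrullDim (C.support : Set X) = 1 →
      0 ≤ Curv2.euler k X (CohB1.tensorMod (ClSub.quotMod C) N) - Curv2.euler k X (ClSub.quotMod C))
    {L : X.Modules} (hL : PicF.IsInvertible L) (h1 : 0 < Big.pair k L L) (h2 : 0 < Big.pair k L H) :
    0 ≤ Big.pair k L N := by
  haveI := CurveCohLib.isNoetherian_of_proper (k := k) (X := X)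
  obtain ⟨c, hc⟩ := Big.exists_quad k hdim.le hL hH.1
  obtain ⟨e4, e3⟩ := Big.pair_eq_of_quad k hdim.le hL hH.1 hc
  obtain ⟨n₀, hn⟩ := Big.exists_growth_of_quad k hdim hH hL hc (by linarith) (by linarith)
  have h := hn (n₀ + 1) (Nat.le_succ _)
  have h0 : (0 : ℚ) ≤ c 3 / 2 * ((n₀ + 1 : ℕ) : ℚ) ^ 2 := mul_nonneg (by linarith) (sq_nonneg _)
  obtain ⟨s, hs⟩ := Big.exists_hom_of_h0_pos k (M := CohB1.tensorPow L (n₀ + 1))
    (by exact_mod_cast lt_of_le_of_lt h0 h)
  have hP := InvX.isInvertible_tensorPow hL (n₀ + 1)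
  obtain ⟨D, hD, hcl⟩ := Big.RealForm.exists_divisor_of_section hP s hs
  have h3 := pair_ideal_nef k hdim hD hN hnef
  rw [Big.pair_inverse k hdim.le hP (Big.isInvertible_ideal hD) hcl hN, Big.pair_pow k hdim.le hL hN] at h3
  have hpos : (0 : ℚ) < ((n₀ + 1 : ℕ) : ℚ) := by positivity
  nlinarith

/-- Nef modules have nonnegative square. -/
theorem pair_self_nonneg_of_nef (hdim : topologicalKrullDim X = 2) {H : X.Modules} (hH : CohB1.IsAmple H)
    {N : X.Modules} (hN : PicF.IsInvertible N)
    (hnef : ∀ C : X.IdealSheafData, IsIntegral C.subscheme → topologicalKrullDim (C.support : Set X) = 1 →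
      0 ≤ Curv2.euler k X (CohB1.tensorMod (ClSub.quotMod C) N) - Curv2.euler k X (ClSub.quotMod C)) :
    0 ≤ Big.pair k N N := by
  by_contra hneg
  rw [not_le] at hneg
  obtain ⟨m, hm⟩ : ∃ m : ℤ, (m : ℚ) = Big.pair k N N := ⟨_, Big.intNum_eq_pair k hdim.le hN hN⟩
  obtain ⟨n, hn⟩ : ∃ n : ℤ, (n : ℚ) = Big.pair k N H := ⟨_, Big.intNum_eq_pair k hdim.le hN hH.1⟩
  have hhh := Big.pair_self_pos k hdim hH
  obtain ⟨h, hh⟩ : ∃ h : ℤ, (h : ℚ) = Big.pair k H H := ⟨_, Big.intNum_eq_pair k hdim.le hH.1 hH.1⟩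
  have hn0 : 0 ≤ Big.pair k N H := by
    rw [Big.pair_symm]
    exact pair_nef_pos k hdim hH hN hnef hH.1 hhh hhh
  have key : ∀ a b : ℤ, 0 < (b : ℚ) ^ 2 * m + 2 * a * b * n + (a : ℚ) ^ 2 * h → 0 < (b : ℚ) * n + a * h →
      0 ≤ (b : ℚ) * m + a * n := by
    intro a b h1 h2
    obtain ⟨P, hP, hPe⟩ := Big.exists_smul k hdim.le hN b
    obtain ⟨Q, hQ, hQe⟩ := Big.exists_smul k hdim.le hH.1 a
    have hL := InvX.isInvertible_tensorMod hP hQ
    have e : ∀ M : X.Modules, PicF.IsInvertible M →
        Big.pair k (CohB1.tensorMod P Q) M = (b : ℚ) * Big.pair k N M + (a : ℚ) * Big.pair k H M := fun M hM => by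
      rw [Big.pair_add k hdim.le hP hQ hM, hPe M hM, hQe M hM]
    have eN : Big.pair k (CohB1.tensorMod P Q) N = (b : ℚ) * m + a * n := by
      rw [e N hN, Big.pair_symm k (L := H), hm, hn]
    have eH : Big.pair k (CohB1.tensorMod P Q) H = (b : ℚ) * n + a * h := by
      rw [e H hH.1, hn, hh]
    have eL : Big.pair k (CohB1.tensorMod P Q) (CohB1.tensorMod P Q) =
        (b : ℚ) ^ 2 * m + 2 * a * b * n + (a : ℚ) ^ 2 * h := by
      rw [e _ hL, Big.pair_symm k (L := N), Big.pair_symm k (L := H), eN, eH]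
      ring
    rw [← eN]
    exact pair_nef_pos k hdim hH hN hnef hL (eL ▸ h1) (eH ▸ h2)
  rw [← hm] at hneg
  rw [← hn] at hn0
  rw [← hh] at hhh
  have h1h : (1 : ℚ) ≤ h := by exact_mod_cast (show (0 : ℤ) < h by exact_mod_cast hhh)
  rcases hn0.eq_or_lt with hz | hz
  · have := key (-m + 1) 1
      (by push_cast; rw [← hz]; nlinarith [mul_le_mul_of_nonneg_left h1h (sq_nonneg (-(m : ℚ) + 1))])
      (by push_cast; rw [← hz]; nlinarith)
    push_cast at this
    rw [← hz] at this
    linarith
  · have := key (-m) (2 * n) (by push_cast; nlinarith [mul_pos (mul_pos_of_neg_of_neg hneg hneg) hhh])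
      (by push_cast; nlinarith [mul_pos hz hz, mul_pos (neg_pos.2 hneg) hhh])
    push_cast at this
    nlinarith

/-- A class of square zero orthogonal to one of positive square is numerically zero. -/
theorem pair_eq_zero_of_orth (hdim : topologicalKrullDim X = 2) {H : X.Modules} (hH : CohB1.IsAmple H)
    {D N : X.Modules} (hD : PicF.IsInvertible D) (hN : PicF.IsInvertible N) (hpos : 0 < Big.pair k D D)
    (h0 : Big.pair k D N = 0) (hNN : 0 ≤ Big.pair k N N) {M : X.Modules} (hM : PicF.IsInvertible M) :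
    Big.pair k N M = 0 := by
  obtain ⟨d, hd⟩ : ∃ d : ℤ, (d : ℚ) = Big.pair k D D := ⟨_, Big.intNum_eq_pair k hdim.le hD hD⟩
  obtain ⟨x, hx⟩ : ∃ x : ℤ, (x : ℚ) = Big.pair k D M := ⟨_, Big.intNum_eq_pair k hdim.le hD hM⟩
  obtain ⟨P, hP, hPe⟩ := Big.exists_smul k hdim.le hM d
  obtain ⟨Q, hQ, hQe⟩ := Big.exists_smul k hdim.le hD (-x)
  have hM' := InvX.isInvertible_tensorMod hP hQ
  let M' := CohB1.tensorMod P Q
  have e1 : Big.pair k N M' = (d : ℚ) * Big.pair k N M := by
    rw [Big.pair_symm, Big.pair_add k hdim.le hP hQ hN, hPe N hN, hQe N hN, Big.pair_symm k (L := M), h0]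
    ring
  have e2 : Big.pair k D M' = 0 := by
    rw [Big.pair_symm, Big.pair_add k hdim.le hP hQ hD, hPe D hD, hQe D hD, Big.pair_symm k (L := M), ← hx, ← hd]
    push_cast
    ring
  by_contra hne
  have hne' : Big.pair k N M' ≠ 0 := e1 ▸ mul_ne_zero (by rw [hd]; exact hpos.ne') hne
  obtain ⟨t, ht⟩ : ∃ t : ℤ, 0 < 2 * (t : ℚ) * Big.pair k N M' + Big.pair k M' M' := by
    rcases hne'.lt_or_gt with h | h
    · refine ⟨-(⌈|Big.pair k M' M'| / -Big.pair k N M'⌉ + 1), ?_⟩
      have hc := Int.le_ceil (|Big.pair k M' M'| / -Big.pair k N M')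
      rw [div_le_iff₀ (neg_pos.2 h)] at hc
      push_cast
      nlinarith [neg_abs_le (Big.pair k M' M'), abs_nonneg (Big.pair k M' M')]
    · refine ⟨⌈|Big.pair k M' M'| / Big.pair k N M'⌉ + 1, ?_⟩
      have hc := Int.le_ceil (|Big.pair k M' M'| / Big.pair k N M')
      rw [div_le_iff₀ h] at hc
      push_cast
      nlinarith [neg_abs_le (Big.pair k M' M'), abs_nonneg (Big.pair k M' M')]
  obtain ⟨R, hR, hRe⟩ := Big.exists_smul k hdim.le hN t
  have hL := InvX.isInvertible_tensorMod hR hM'
  have h5 := Big.pair_self_nonpos_of_orth k hdim hH hD hL hpos (by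
    rw [Big.pair_symm, Big.pair_add k hdim.le hR hM' hD, hRe D hD, Big.pair_symm k (L := N) (M := D), h0,
      Big.pair_symm k (L := M'), e2]
    ring)
  have e3 : Big.pair k (CohB1.tensorMod R M') (CohB1.tensorMod R M') =
      (t : ℚ) ^ 2 * Big.pair k N N + 2 * t * Big.pair k N M' + Big.pair k M' M' := by
    rw [Big.pair_add k hdim.le hR hM' hL, hRe _ hL, Big.pair_symm k (L := N), Big.pair_symm k (L := M') (M := CohB1.tensorMod R M'),
      Big.pair_add k hdim.le hR hM' hN, Big.pair_add k hdim.le hR hM' hM', hRe N hN, hRe M' hM',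
      Big.pair_symm k (L := M') (M := N)]
    ring
  rw [e3] at h5
  nlinarith [mul_nonneg (sq_nonneg (t : ℚ)) hNN]

variable [Smooth (X ↘ Spec (CommRingCat.of k))]

include k in
/-- A smooth proper surface carries an ample module. -/
theorem exists_isAmple (hdim : topologicalKrullDim X = 2) : ∃ H : X.Modules, CohB1.IsAmple H := by
  haveI : CompactSpace X := QuasiCompact.compactSpace_of_compactSpace (X ↘ Spec (CommRingCat.of k))
  have hreg : ∀ x : X, IsRegularLocalRing (X.presheaf.stalk x) := fun x =>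
    GrpSchLib.isRegularLocalRing_stalk_of_smooth (X ↘ Spec (CommRingCat.of k)) x
  obtain ⟨_, ⟨U, hU, rfl⟩, hxU, -⟩ := X.isBasis_affineOpens.exists_subset_of_mem_open
    (Set.mem_univ (genericPoint X)) isOpen_univ
  obtain ⟨-, -, -, M, hM, -⟩ := Big.AffineBd.exists_ample_boundary k hdim hreg ⟨U, hU⟩ ⟨_, hxU⟩
  exact ⟨M, hM⟩

/-- Negative canonical degree and negative square: an exceptional curve of the first kind. -/
theorem minusOne_of_neg [IsAlgClosed k] (hdim : topologicalKrullDim X = 2) {W : X.Modules}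
    (hW : ExtPow.IsExtPow 2 (Omega.sheaf (X ↘ Spec (CommRingCat.of k))) W) {I : X.IdealSheafData}
    [IsIntegral I.subscheme] (hId : topologicalKrullDim (I.support : Set X) = 1)
    (hIW : 0 < FGA.intNum k X 2 ![ClSub.idealMod I, W] (Coh.structureModule X))
    (hII : FGA.intNum k X 2 ![ClSub.idealMod I, ClSub.idealMod I] (Coh.structureModule X) < 0) :
    FGA.intNum k X 2 ![ClSub.idealMod I, ClSub.idealMod I] (Coh.structureModule X) = -1 ∧
      FGA.intNum k X 2 ![ClSub.idealMod I, W] (Coh.structureModule X) = 1 ∧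
      Subsingleton (Coh.HH I.subscheme (Coh.structureModule I.subscheme) 1) := by
  have h1 := adjunction_curve k hdim hW (Big.NegDef.invertible_of_curve k hdim ‹_› hId)
  have h2 := euler_quot_curve k (X := X) (I := I) hId
  letI : I.subscheme.Over (Spec (CommRingCat.of k)) := ⟨I.subschemeι ≫ (X ↘ Spec (CommRingCat.of k))⟩
  haveI : IsProper (I.subscheme ↘ Spec (CommRingCat.of k)) :=
    inferInstanceAs (IsProper (I.subschemeι ≫ (X ↘ Spec (CommRingCat.of k))))
  haveI : IsNoetherian I.subscheme := CurveCohLib.isNoetherian_of_proper (k := k)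
  haveI := CurveCohLib.finite_HH (k := k) (QCoh.isCoh_structureModule' (X := I.subscheme)) 1
  refine ⟨by omega, by omega, (Module.finrank_zero_iff (R := k)).1 ?_⟩
  omega

/-- Serre duality for invertible modules: `h^p(L) = h^{2-p}(ω ⊗ L⁻¹)`. -/
theorem finrank_dual (hdim : topologicalKrullDim X = 2) {W : X.Modules}
    (hW : ExtPow.IsExtPow 2 (Omega.sheaf (X ↘ Spec (CommRingCat.of k))) W) {L D : X.Modules}
    (hL : PicF.IsInvertible L) (hLD : PicF.cl L * PicF.cl D = 1) (p : ℕ) (hp : p ≤ 2) :
    Module.finrank k (Coh.HH X (CohB1.tensorMod W D) (2 - p)) = Module.finrank k (Coh.HH X L p) := by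
  haveI : IsNoetherian X := CurveCohLib.isNoetherian_of_proper (k := k)
  haveI := SurfStab.smoothOfRelativeDimension_two (k := k) hdim
  obtain ⟨H, hH⟩ := exists_isAmple k hdim
  obtain ⟨N, ι, hι, hι'⟩ := AmpleEmbed.exists_closedImmersion (X ↘ Spec (CommRingCat.of k)) hH
  haveI := hι
  obtain ⟨φ⟩ := nonempty_hom_iso_tensor hL hLD W
  obtain ⟨g⟩ := ExtShX.SmoothDual.nonempty_dual_HH (n := 2) (ι : X ⟶ PnVan.P k N) hι' hW
    (H23.PullPush.isFinLocFree_of_isInvertible hL) p hp
  obtain ⟨h⟩ := ExtShX.nonempty_HH_equiv_of_iso (A := k) φ (2 - p)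
  haveI := CurveCohLib.finite_HH (k := k) (AmpleVan.isCoh_invertible hL) p
  exact (g.trans h).finrank_eq.symm.trans Subspace.dual_finrank_eq

end Groth.Agent.SurfRR
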