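import Groth.Agent.SurfRR.Effective
import Groth.Agent.FMBase.IdealProd
import Groth.Agent.H9Existence.Lift
import Groth.Agent.ModPairLib.Quot

/-!
# Products of divisors and pullbacks of hyperplanes
-/

set_option linter.style.haveILetI false
set_option linter.unusedSectionVars false
set_option backward.isDefEq.respectTransparency false
set_option backward.isDefEq.respectTransparency.types false

universe u

open CategoryTheory CategoryTheory.Limits AlgebraicGeometry TopologicalSpace
open Groth.Agent.H23.PicMul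

noncomputable section

namespace Groth.Agent.SurfRR

open Groth.Agent

/-- The ideal module of a product of divisors. -/
theorem cl_idealMod_mul {X : Scheme.{u}} {I J : X.IdealSheafData} (hI : BlowUp.IsEffCartierIdeal I)
    (hJ : BlowUp.IsEffCartierIdeal J) :
    PicF.cl (ClSub.idealMod (I * J)) = PicF.cl (ClSub.idealMod I) * PicF.cl (ClSub.idealMod J) := by
  haveI := FMBase.epi_mulIdeal I J
  have hIJ := Big.isInvertible_ideal (ModPairLib.isEffCartier_mul hI hJ)
  have hT := InvX.isInvertible_tensorMod (Big.isInvertible_ideal hI) (Big.isInvertible_ideal hJ)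
  haveI := H9Existence.isIso_of_epi_invertible hT hIJ (FMBase.mulIdeal I J)
  rw [← cl_tensor]
  exact cl_eq_iff.2 ⟨(asIso (FMBase.mulIdeal I J)).symm⟩

variable (k : Type u) [Field k] {X : Scheme.{u}} [X.Over (Spec (CommRingCat.of k))]
  [IsProper (X ↘ Spec (CommRingCat.of k))] [IsIntegral X]

/-- The inverse image of the hyperplane class is nef. -/
theorem pullTwist_nef {N : ℕ} {K : Type u} [Field K] (σ : X ⟶ CohB1.ProjSpace N K) :
    PicF.IsInvertible ((Scheme.Modules.pullback σ).obj (Twist.twistProjSpace N K 1)) ∧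
    ∀ C : X.IdealSheafData, IsIntegral C.subscheme → topologicalKrullDim (C.support : Set X) = 1 →
      0 ≤ Curv2.euler k X (CohB1.tensorMod (ClSub.quotMod C) ((Scheme.Modules.pullback σ).obj (Twist.twistProjSpace N K 1))) -
        Curv2.euler k X (ClSub.quotMod C) := by
  let H := (Scheme.Modules.pullback σ).obj (Twist.twistProjSpace N K 1)
  have hH : PicF.IsInvertible H := PicClLib.isInvertible_pullback σ (Big.isAmple_hyperplane N K).1
  refine ⟨hH, fun C hCi hCd => ?_⟩
  haveI := hCi
  have hcov : ⨆ i : Fin (N + 1), Proj.basicOpen (CohB1.polyGrading N K) (MvPolynomial.X i) = ⊤ :=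
    top_le_iff.1 (PnCoh.iSup_mOpen_single (ι := Fin (N + 1)) (R := K)).ge
  let η : X := C.subschemeι (genericPoint C.subscheme)
  obtain ⟨i, hi⟩ := Opens.mem_iSup.1 (hcov.ge (Opens.mem_top (σ η)))
  have hη : genericPoint X ∈ σ ⁻¹ᵁ Proj.basicOpen (CohB1.polyGrading N K) (MvPolynomial.X i) :=
    ((genericPoint_spec X).mem_open_set_iff (σ ⁻¹ᵁ _).2).2 ⟨η, Set.mem_univ _, hi⟩
  obtain ⟨I, hI, hs, hcl⟩ := Big.exists_hyperplane_divisor σ i hη
  have hCd' : topologicalKrullDim C.subscheme = 1 :=
    (AmpleDev.dim_eq_one_of_closedImmersion C.subschemeι C.range_subschemeι).trans hCd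
  have h1 := Big.RealForm.cdeg_idealMod_nonpos_of_not_subset k C.subschemeι hCd' hI (fun hsub => by
    have := hsub ⟨genericPoint C.subscheme, rfl⟩
    rw [hs] at this
    exact this hi)
  have h2 := Big.cdeg_inverse k C.subschemeι (hCd'.trans Nat.cast_one.symm).le hH (Big.isInvertible_ideal hI) hcl
  have h3 : (0 : ℚ) ≤ Big.cdeg k C.subschemeι H := by linarith
  rw [Big.cdeg_eq] at h3
  exact_mod_cast h3

/-- A module with a section pairs nonnegatively with nef modules. -/
theorem intNum_nonneg_of_section (hdim : topologicalKrullDim X = 2) {L : X.Modules} (hL : PicF.IsInvertible L)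
    (hsec : Nontrivial (Coh.HH X L 0)) {H : X.Modules} (hH : PicF.IsInvertible H)
    (hnef : ∀ C : X.IdealSheafData, IsIntegral C.subscheme → topologicalKrullDim (C.support : Set X) = 1 →
      0 ≤ Curv2.euler k X (CohB1.tensorMod (ClSub.quotMod C) H) - Curv2.euler k X (ClSub.quotMod C)) :
    0 ≤ FGA.intNum k X 2 ![L, H] (Coh.structureModule X) := by
  haveI : IsNoetherian X := CurveCohLib.isNoetherian_of_proper (k := k)
  haveI := CurveCohLib.finite_HH (k := k) (AmpleVan.isCoh_invertible hL) 0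
  obtain ⟨s, hs⟩ := Big.exists_hom_of_h0_pos k (M := L) Module.finrank_pos
  obtain ⟨D, hD, hcl⟩ := Big.RealForm.exists_divisor_of_section hL s hs
  have h := pair_ideal_nef k hdim hD hH hnef
  rw [Big.pair_inverse k hdim.le hL (Big.isInvertible_ideal hD) hcl hH, ← Big.intNum_eq_pair k hdim.le hL hH] at h
  have : (0 : ℚ) ≤ (FGA.intNum k X 2 ![L, H] (Coh.structureModule X) : ℚ) := by linarith
  exact_mod_cast this

/-- Numerical positivity implies numerical connectedness. -/
theorem pair_pos_of_decomposition (hdim : topologicalKrullDim X = 2) {H : X.Modules} (hH : CohB1.IsAmple H)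
    {A B : X.IdealSheafData} (hA : BlowUp.IsEffCartierIdeal A) (hB : BlowUp.IsEffCartierIdeal B)
    (hAne : (A.support : Set X).Nonempty) (hBne : (B.support : Set X).Nonempty)
    (hpos : 0 < Big.pair k (ClSub.idealMod (A * B)) (ClSub.idealMod (A * B)))
    (hnef : ∀ Γ : X.IdealSheafData, IsIntegral Γ.subscheme → topologicalKrullDim (Γ.support : Set X) = 1 →
      Curv2.euler k X (CohB1.tensorMod (ClSub.quotMod Γ) (ClSub.idealMod (A * B))) - Curv2.euler k X (ClSub.quotMod Γ) ≤ 0) :
    0 < Big.pair k (ClSub.idealMod A) (ClSub.idealMod B) := by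
  let P := ClSub.idealMod (A * B)
  have hAi := Big.isInvertible_ideal hA
  have hBi := Big.isInvertible_ideal hB
  have hP : PicF.IsInvertible P := Big.isInvertible_ideal (ModPairLib.isEffCartier_mul hA hB)
  have hcl : PicF.cl P = PicF.cl (CohB1.tensorMod (ClSub.idealMod A) (ClSub.idealMod B)) := by
    rw [cl_tensor]; exact cl_idealMod_mul hA hB
  obtain ⟨Q, hQ, ⟨e⟩⟩ := H23.PicInv.exists_inverse hP
  have hPQ := Big.cl_mul_eq_one ⟨e⟩
  have hQnef : ∀ Γ : X.IdealSheafData, IsIntegral Γ.subscheme → topologicalKrullDim (Γ.support : Set X) = 1 →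
      0 ≤ Curv2.euler k X (CohB1.tensorMod (ClSub.quotMod Γ) Q) - Curv2.euler k X (ClSub.quotMod Γ) := by
    intro Γ hΓi hΓd
    have hd := (AmpleDev.dim_eq_one_of_closedImmersion Γ.subschemeι Γ.range_subschemeι).trans hΓd
    have h1 : Big.cdeg k Γ.subschemeι P ≤ 0 := by
      rw [Big.cdeg_eq]; exact_mod_cast hnef Γ hΓi hΓd
    have h2 := Big.cdeg_inverse k Γ.subschemeι (hd.trans Nat.cast_one.symm).le hP hQ hPQ
    have h3 : (0 : ℚ) ≤ Big.cdeg k Γ.subschemeι Q := by linarith
    rw [Big.cdeg_eq] at h3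
    exact_mod_cast h3
  have hnn : ∀ {D : X.IdealSheafData}, BlowUp.IsEffCartierIdeal D → 0 ≤ Big.pair k P (ClSub.idealMod D) := by
    intro D hD
    have h := pair_ideal_nef k hdim hD hQ hQnef
    have h2 := Big.pair_inverse k hdim.le hP hQ hPQ (Big.isInvertible_ideal hD)
    rw [Big.pair_symm k (L := ClSub.idealMod D)] at h
    linarith
  have ha : Big.pair k P (ClSub.idealMod A) =
      Big.pair k (ClSub.idealMod A) (ClSub.idealMod A) + Big.pair k (ClSub.idealMod A) (ClSub.idealMod B) := by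
    rw [Big.pair_congr k hcl, Big.pair_add k hdim.le hAi hBi hAi, Big.pair_symm k (L := ClSub.idealMod B)]
  have hb : Big.pair k P (ClSub.idealMod B) =
      Big.pair k (ClSub.idealMod B) (ClSub.idealMod B) + Big.pair k (ClSub.idealMod A) (ClSub.idealMod B) := by
    rw [Big.pair_congr k hcl, Big.pair_add k hdim.le hAi hBi hBi, add_comm]
  have hP2 : Big.pair k P P = Big.pair k P (ClSub.idealMod A) + Big.pair k P (ClSub.idealMod B) := by
    rw [Big.pair_congr k hcl, Big.pair_add k hdim.le hAi hBi hP, Big.pair_symm k (L := ClSub.idealMod A),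
      Big.pair_symm k (L := ClSub.idealMod B)]
  have key : ∀ {D : X.IdealSheafData}, BlowUp.IsEffCartierIdeal D → (D.support : Set X).Nonempty →
      Big.pair k P (ClSub.idealMod D) = 0 → Big.pair k (ClSub.idealMod D) (ClSub.idealMod D) < 0 := by
    intro D hD hne h0
    have hDi := Big.isInvertible_ideal hD
    refine lt_of_le_of_ne (Big.pair_self_nonpos_of_orth k hdim hH hP hDi hpos h0) fun h => ?_
    have h1 := pair_eq_zero_of_orth k hdim hH hP hDi hpos h0 h.ge hH.1
    have h2 := intNum_ideal_ample_neg k hdim hD hne hH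
    rw [← Big.intNum_eq_pair k hdim.le hDi hH.1] at h1
    have h3 : FGA.intNum k X 2 ![ClSub.idealMod D, H] (Coh.structureModule X) = 0 := by exact_mod_cast h1
    linarith
  obtain ⟨a, hae⟩ : ∃ a, Big.pair k P (ClSub.idealMod A) = a := ⟨_, rfl⟩
  obtain ⟨b, hbe⟩ : ∃ b, Big.pair k P (ClSub.idealMod B) = b := ⟨_, rfl⟩
  have ha0 : 0 ≤ a := hae ▸ hnn hA
  have hb0 : 0 ≤ b := hbe ▸ hnn hB
  rcases ha0.eq_or_lt with ha1 | ha1
  · have := key hA hAne (hae.trans ha1.symm)
    linarith
  rcases hb0.eq_or_lt with hb1 | hb1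
  · have := key hB hBne (hbe.trans hb1.symm)
    linarith
  · obtain ⟨x, hx⟩ : ∃ x : ℤ, (x : ℚ) = Big.pair k P P := ⟨_, Big.intNum_eq_pair k hdim.le hP hP⟩
    obtain ⟨y, hy⟩ : ∃ y : ℤ, (y : ℚ) = a := ⟨_, (Big.intNum_eq_pair k hdim.le hP hAi).trans hae⟩
    obtain ⟨U, hU, hUe⟩ := Big.exists_smul k hdim.le hAi x
    obtain ⟨V, hV, hVe⟩ := Big.exists_smul k hdim.le hP (-y)
    have hM := InvX.isInvertible_tensorMod hU hV
    have h5 := Big.pair_self_nonpos_of_orth k hdim hH hP hM hpos (by
      rw [Big.pair_symm, Big.pair_add k hdim.le hU hV hP, hUe P hP, hVe P hP,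
        Big.pair_symm k (L := ClSub.idealMod A), hae, Int.cast_neg, hx, hy]
      ring)
    rw [Big.pair_add k hdim.le hU hV hM, hUe _ hM, hVe _ hM, Big.pair_symm k (L := ClSub.idealMod A),
      Big.pair_symm k (L := P), Big.pair_add k hdim.le hU hV hAi, Big.pair_add k hdim.le hU hV hP,
      hUe _ hAi, hVe _ hAi, hUe _ hP, hVe _ hP, Big.pair_symm k (L := ClSub.idealMod A) (M := P), hae,
      Int.cast_neg, hx, hy] at h5
    rw [hP2, hae, hbe] at h5
    rw [hae] at ha
    by_contra hc
    rw [not_lt] at hc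
    have hA2 : 0 ≤ Big.pair k (ClSub.idealMod A) (ClSub.idealMod A) - a := by linarith
    nlinarith [mul_nonneg (sq_nonneg (a + b)) hA2, mul_pos (mul_pos ha1 hb1) (add_pos ha1 hb1)]

end Groth.Agent.SurfRR
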