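import Groth.Agent.SurfRR.Effective
import Groth.Agent.CurveBC.Geometry

/-!
# Connectedness of divisors and their first cohomology
-/

set_option linter.style.haveILetI false
set_option linter.unusedSectionVars false
set_option backward.isDefEq.respectTransparency false
set_option backward.isDefEq.respectTransparency.types false

universe u

open CategoryTheory CategoryTheory.Limits AlgebraicGeometry TopologicalSpace
open Groth.Agent.PnCoh.Finite (mapLin deltaLin)

noncomputable section

namespace Groth.Agent.SurfRR

open Groth.Agent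

variable (k : Type u) [Field k] {X : Scheme.{u}} [X.Over (Spec (CommRingCat.of k))]
  [IsProper (X ↘ Spec (CommRingCat.of k))]

/-- The start of the long exact sequence. -/
theorem finrank_seq {S : ShortComplex X.Modules} (hS : S.ShortExact) (h₁ : Coh.IsCoh S.X₁) (h₂ : Coh.IsCoh S.X₂)
    (h₃ : Coh.IsCoh S.X₃) :
    (Module.finrank k (Coh.HH X S.X₁ 0) : ℤ) + Module.finrank k (Coh.HH X S.X₃ 0) -
      Module.finrank k (Coh.HH X S.X₂ 0) = Module.finrank k (LinearMap.ker (mapLin k S.f 1)) := by
  haveI : IsNoetherian X := CurveCohLib.isNoetherian_of_proper (k := k)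
  haveI := fun n => CurveCohLib.finite_HH (k := k) h₁ n
  haveI := fun n => CurveCohLib.finite_HH (k := k) h₂ n
  haveI := fun n => CurveCohLib.finite_HH (k := k) h₃ n
  have e1 := LinearMap.finrank_range_add_finrank_ker (mapLin k S.f 0)
  have e2 := LinearMap.finrank_range_add_finrank_ker (mapLin k S.g 0)
  have e3 := LinearMap.finrank_range_add_finrank_ker (deltaLin k hS 0)
  rw [CurveCohLib.ker_mapLin_g k hS 0] at e2
  rw [CurveCohLib.ker_deltaLin k hS 0, ← CurveCohLib.ker_mapLin_f_succ k hS 0] at e3
  rw [LinearMap.ker_eq_bot.2 (CurveCohLib.mapLin_f_zero_injective k hS), finrank_bot] at e1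
  have e0 : Module.finrank k (LinearMap.ker (mapLin k S.f (0 + 1))) =
      Module.finrank k (LinearMap.ker (mapLin k S.f 1)) := rfl
  omega

/-- Global functions on a reduced connected proper scheme over an algebraically closed field. -/
theorem finrank_h0_reduced [IsAlgClosed k] [IsReduced X] [ConnectedSpace X] :
    Module.finrank k (Coh.HH X (Coh.structureModule X) 0) = 1 := by
  letI := GeomField.globalAlgebra k X
  rw [GeomField.finrank_HH_zero k X]
  haveI := GeomField.algebraMap_integral k X
  letI : Field Γ(X, ⊤) := (GeomField.isField_globalFunctions k X).toField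
  have hb : Function.Bijective (algebraMap k Γ(X, ⊤)) := IsAlgClosed.algebraMap_bijective_of_isIntegral
  rw [← (LinearEquiv.ofBijective (Algebra.linearMap k Γ(X, ⊤)) hb).finrank_eq]
  exact Module.finrank_self k

variable [IsIntegral X]

/-- The cohomology of a divisor against that of its ideal. -/
theorem finrank_h0_divisor [IsAlgClosed k] (hdim : topologicalKrullDim X = 2)
    (hH1 : Subsingleton (Coh.HH X (Coh.structureModule X) 1)) {D : X.IdealSheafData}
    (hD : PicF.IsInvertible (ClSub.idealMod D)) (hne : (D.support : Set X).Nonempty) {H : X.Modules}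
    (hH : CohB1.IsAmple H) :
    letI : D.subscheme.Over (Spec (CommRingCat.of k)) := ⟨D.subschemeι ≫ (X ↘ Spec (CommRingCat.of k))⟩
    (Module.finrank k (Coh.HH D.subscheme (Coh.structureModule D.subscheme) 0) : ℤ) =
      1 + Module.finrank k (Coh.HH X (ClSub.idealMod D) 1) := by
  letI : D.subscheme.Over (Spec (CommRingCat.of k)) := ⟨D.subschemeι ≫ (X ↘ Spec (CommRingCat.of k))⟩
  haveI : IsNoetherian X := CurveCohLib.isNoetherian_of_proper (k := k)
  have h0 : Module.finrank k (Coh.HH X (ClSub.idealMod D) 0) = 0 := by
    by_contra h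
    have hn := intNum_ideal_ample_neg k hdim ((S8914.result D).1 hD) hne hH
    rcases intNum_pos_of_section k hdim hD (Module.nontrivial_of_finrank_pos (R := k) (Nat.pos_of_ne_zero h)) hH with h1 | h1
    · have hz : Big.pair k (ClSub.idealMod D) H = 0 := by
        rw [Big.pair_congr k (L' := Coh.structureModule X) (h1.trans H23.PicMul.one_def), Big.pair_one k hdim.le hH.1]
      rw [← Big.intNum_eq_pair k hdim.le hD hH.1] at hz
      have : FGA.intNum k X 2 ![ClSub.idealMod D, H] (Coh.structureModule X) = 0 := by exact_mod_cast hz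
      omega
    · omega
  have hs := finrank_seq k (ExtShX.shortExact_toSubscheme D) (AmpleVan.isCoh_invertible hD)
    (RefX.isCoh_unit (X := X)) (ParShLib.isCoh_quotMod D)
  change (Module.finrank k (Coh.HH X (ClSub.idealMod D) 0) : ℤ) + Module.finrank k (Coh.HH X (ClSub.quotMod D) 0) -
    Module.finrank k (Coh.HH X (Coh.structureModule X) 0) = _ at hs
  rw [h0, CurveReg.finrank_h0_integral] at hs
  have hker : LinearMap.ker (mapLin k (ClSub.idealModι D) 1) = ⊤ :=
    eq_top_iff.2 fun x _ => LinearMap.mem_ker.2 (hH1.elim _ _)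
  obtain ⟨l⟩ := PnCoh.exists_linearEquiv_push k D.subschemeι rfl (QCoh.isQCoh_structureModule (X := D.subscheme)) 0
  have hl : Module.finrank k (Coh.HH D.subscheme (Coh.structureModule D.subscheme) 0) =
      Module.finrank k (Coh.HH X (ClSub.quotMod D) 0) := l.finrank_eq
  change _ = (Module.finrank k (LinearMap.ker (mapLin k (ClSub.idealModι D) 1)) : ℤ) at hs
  rw [hker, finrank_top] at hs
  rw [hl]
  omega

end Groth.Agent.SurfRR
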