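import Groth.Agent.SurfRR.Basic
import Groth.Agent.Lib.CurveRR

/-!
# Intersection with a curve is the degree of the restriction
-/

set_option linter.style.haveILetI false
set_option linter.unusedSectionVars false
set_option backward.isDefEq.respectTransparency false
set_option backward.isDefEq.respectTransparency.types false

universe u

open CategoryTheory CategoryTheory.Limits AlgebraicGeometry TopologicalSpace
open Groth.Agent.H23.PicMul

noncomputable section

namespace Groth.Agent.SurfRR

open Groth.Agent

variable {k : Type u} [Field k] {X : Scheme.{u}} [X.Over (Spec (CommRingCat.of k))]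
  [IsProper (X ↘ Spec (CommRingCat.of k))] {C : Scheme.{u}} [C.Over (Spec (CommRingCat.of k))] [IsIntegral C]

theorem intNum_ideal_inverse (hdim : topologicalKrullDim X ≤ 2) (hC : topologicalKrullDim C = 1) (i : C ⟶ X)
    [IsClosedImmersion i] (hi : i ≫ (X ↘ Spec (CommRingCat.of k)) = C ↘ Spec (CommRingCat.of k))
    (hI : PicF.IsInvertible (ClSub.idealMod i.ker)) {L L' : X.Modules} (hL : PicF.IsInvertible L)
    (hL' : PicF.IsInvertible L') (hLL' : PicF.cl L * PicF.cl L' = 1) :
    FGA.intNum k X 2 ![ClSub.idealMod i.ker, L'] (Coh.structureModule X) =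
      Curv2.deg k C ((Scheme.Modules.pullback i).obj L) 1 := by
  haveI : IsNoetherian X := CurveCohLib.isNoetherian_of_proper (k := k)
  haveI : IsProper (C ↘ Spec (CommRingCat.of k)) := hi ▸ inferInstance
  haveI : IsNoetherian C := CurveCohLib.isNoetherian_of_proper (k := k)
  haveI : IsLocallyNoetherian i.ker.subscheme := LocallyOfFiniteType.isLocallyNoetherian i.ker.subschemeι
  let I := ClSub.idealMod i.ker
  let O := Coh.structureModule X
  let OC := Coh.structureModule C
  let LC := (Scheme.Modules.pullback i).obj L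
  let LC' := (Scheme.Modules.pullback i).obj L'
  have hLC : PicF.IsInvertible LC := PicClLib.isInvertible_pullback i hL
  have hLC' : PicF.IsInvertible LC' := PicClLib.isInvertible_pullback i hL'
  have hdeg : Curv2.deg k C LC 1 + Curv2.deg k C LC' 1 = 0 := by
    obtain ⟨e⟩ : Nonempty (CohB1.tensorMod LC LC' ≅ OC) := cl_eq_iff.1 (by
      have h := congrArg (PicF.pullCl i) hLL'
      rw [H23.PicMul.pullCl_mul, H23.PicMul.pullCl_one] at h
      exact h)
    rw [← CurveRR.deg_tensor k hC hLC hLC']
    exact (CurveRR.deg_congr k e 1).trans (CurveDeg.deg_structureModule k)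
  obtain ⟨q⟩ := ExtShX.nonempty_push_iso_quotMod i
  have hqc : Coh.IsCoh (ClSub.quotMod i.ker) :=
    QCoh.isCoh_pushforward_finite i.ker.subschemeι (QCoh.isCoh_structureModule' (X := i.ker.subscheme))
  have hSI := ExtShX.shortExact_toSubscheme i.ker
  have hIc := AmpleVan.isCoh_invertible hI
  have h1 : Curv2.euler k X O = Curv2.euler k X I + Curv2.euler k C OC := by
    have h := Euler.euler_add k hSI hIc (RefX.isCoh_unit (X := X)) hqc
    change Curv2.euler k X O = Curv2.euler k X I + Curv2.euler k X (ClSub.quotMod i.ker) at h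
    rwa [← Euler.euler_congr k q, AmpleDev.euler_push k i hi (QCoh.isCoh_structureModule' (X := C)).1] at h
  have hl := H23.PullPush.isFinLocFree_of_isInvertible hL'
  let T := (DCoh.tensorBi (X := X)).obj L'
  have hTc : ∀ {G : X.Modules}, Coh.IsCoh G → Coh.IsCoh (T.obj G) := fun hG => CurveTensor.isCoh_tensor hl hG
  have h2 : Curv2.euler k X L' = Curv2.euler k X (CohB1.tensorMod I L') + Curv2.euler k C LC' := by
    haveI : T.Additive := Functor.additive_of_preserves_binary_products _
    have h := Euler.euler_add k (CurveTensor.shortExact_tensor hl _ _ _ hSI) (hTc hIc) (hTc (RefX.isCoh_unit (X := X))) (hTc hqc)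
    change Curv2.euler k X (T.obj O) = Curv2.euler k X (T.obj I) + Curv2.euler k X (T.obj (ClSub.quotMod i.ker)) at h
    rw [Euler.euler_congr k (KFlatLib.tensorUnitIso L'), Euler.euler_congr k (CurveTensor.commIso L' I),
      ← Euler.euler_congr k (T.mapIso q)] at h
    obtain ⟨p⟩ := AmpleDev.push_tensor_iso i hL' OC
    obtain ⟨r⟩ : Nonempty (CohB1.tensorMod OC LC' ≅ LC') := cl_eq_iff.1 (by
      rw [cl_tensor, ← H23.PicMul.one_def, one_mul])
    rw [Euler.euler_congr k (CurveTensor.commIso L' ((Coh.push i).obj OC) ≪≫ p ≪≫ (Coh.push i).mapIso r),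
      AmpleDev.euler_push k i hi (AmpleVan.isCoh_invertible hLC').1] at h
    exact h
  have key : (FGA.intNum k X 2 ![I, L'] O : ℚ) = (Curv2.deg k C LC 1 : ℤ) := by
    rw [Big.intNum_eq_pair k hdim hI hL', SurfStab.pair_eq]
    have h1' : (Curv2.euler k X O : ℚ) = Curv2.euler k X I + Curv2.euler k C OC := by exact_mod_cast h1
    have h2' : (Curv2.euler k X L' : ℚ) = Curv2.euler k X (CohB1.tensorMod I L') + Curv2.euler k C LC' := by
      exact_mod_cast h2
    have h3 : Curv2.deg k C LC' 1 = Curv2.euler k C LC' - Curv2.euler k C OC := by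
      unfold Curv2.deg; simp [OC]
    have h4 : (Curv2.deg k C LC 1 : ℚ) = -((Curv2.euler k C LC' : ℚ) - Curv2.euler k C OC) := by
      have : Curv2.deg k C LC 1 = -(Curv2.euler k C LC' - Curv2.euler k C OC) := by linarith
      exact_mod_cast this
    show (Curv2.euler k X O : ℚ) - Curv2.euler k X I - Curv2.euler k X L' +
      Curv2.euler k X (CohB1.tensorMod I L') = _
    rw [h4]
    linarith
  exact_mod_cast key

end Groth.Agent.SurfRR
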