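import Groth.Agent.SurfStab.K3Basics
import Groth.Agent.ExtShX.HomShLocFree
import Groth.Agent.ExtShX.SmoothDual
import Groth.Agent.Big.AffineBoundary
import Groth.Agent.Lib.AmpleEmbed
import Groth.Agent.Lib.CurveTensor
import Groth.Agent.ExtShX.Divisor

/-!
# Riemann–Roch on surfaces from duality
-/

set_option linter.style.haveILetI false
set_option linter.unusedSectionVars false
set_option backward.isDefEq.respectTransparency false
set_option backward.isDefEq.respectTransparency.types false

universe u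

open CategoryTheory CategoryTheory.Limits AlgebraicGeometry TopologicalSpace
open Groth.Agent.H23.PicMul

noncomputable section

namespace Groth.Agent.SurfRR

open Groth.Agent

variable {k : Type u} [Field k] {X : Scheme.{u}} [X.Over (Spec (CommRingCat.of k))]
  [IsProper (X ↘ Spec (CommRingCat.of k))]

/-- Riemann–Roch from the duality of Euler characteristics. -/
theorem rr_of_dual (hdim : topologicalKrullDim X ≤ 2) {ω : X.Modules} (hω : PicF.IsInvertible ω)
    (h : ∀ L D : X.Modules, PicF.IsInvertible L → PicF.IsInvertible D → PicF.cl L * PicF.cl D = 1 →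
      Curv2.euler k X (CohB1.tensorMod ω D) = Curv2.euler k X L)
    {L : X.Modules} (hL : PicF.IsInvertible L) :
    2 * Curv2.euler k X L = FGA.intNum k X 2 ![L, L] (Coh.structureModule X) -
      FGA.intNum k X 2 ![L, ω] (Coh.structureModule X) + 2 * Curv2.euler k X (Coh.structureModule X) := by
  let O := Coh.structureModule X
  obtain ⟨D, hD, ⟨δ⟩⟩ := H23.PicInv.exists_inverse hL
  have hLD : PicF.cl L * PicF.cl D = 1 := Big.cl_mul_eq_one ⟨δ⟩
  have hc : ∀ {A B : X.Modules}, PicF.cl A = PicF.cl B → (Curv2.euler k X A : ℚ) = Curv2.euler k X B :=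
    fun h => congrArg Int.cast (CurveCohLib.euler_congr (k := k) (cl_eq_iff.1 h).some)
  have hωO : (Curv2.euler k X ω : ℚ) = Curv2.euler k X O := by
    have h1 := h O O InvX.isInvertible_structureModule InvX.isInvertible_structureModule
      (by rw [← H23.PicMul.one_def, one_mul])
    exact (hc (by rw [cl_tensor, ← H23.PicMul.one_def, mul_one])).trans (congrArg Int.cast h1)
  have hωD : (Curv2.euler k X (CohB1.tensorMod ω D) : ℚ) = Curv2.euler k X L :=
    congrArg Int.cast (h L D hL hD hLD)
  have p1 := SurfStab.pair_eq (k := k) D L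
  have p2 := SurfStab.pair_eq (k := k) D ω
  rw [hc (A := CohB1.tensorMod D L) (B := O) (by rw [cl_tensor, mul_comm, hLD, H23.PicMul.one_def])] at p1
  rw [hc (A := CohB1.tensorMod D ω) (B := CohB1.tensorMod ω D) (by rw [cl_tensor, cl_tensor, mul_comm]),
    hωD, hωO] at p2
  have q1 := Big.pair_inverse k hdim hL hD hLD hL
  have q2 := Big.pair_inverse k hdim hL hD hLD hω
  have r1 := Big.intNum_eq_pair k hdim hL hL
  have r2 := Big.intNum_eq_pair k hdim hL hω
  have key : (2 : ℚ) * Curv2.euler k X L = (FGA.intNum k X 2 ![L, L] O : ℚ) -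
      (FGA.intNum k X 2 ![L, ω] O : ℚ) + 2 * Curv2.euler k X O := by
    rw [r1, r2]; linarith
  exact_mod_cast key

/-- The arithmetic genus of an effective Cartier divisor, from Riemann–Roch. -/
theorem adjunction_of_dual (hdim : topologicalKrullDim X ≤ 2) {ω : X.Modules} (hω : PicF.IsInvertible ω)
    (h : ∀ L D : X.Modules, PicF.IsInvertible L → PicF.IsInvertible D → PicF.cl L * PicF.cl D = 1 →
      Curv2.euler k X (CohB1.tensorMod ω D) = Curv2.euler k X L)
    {C : Scheme.{u}} [C.Over (Spec (CommRingCat.of k))] (i : C ⟶ X) [IsClosedImmersion i]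
    (hi : i ≫ (X ↘ Spec (CommRingCat.of k)) = C ↘ Spec (CommRingCat.of k))
    (hI : PicF.IsInvertible (ClSub.idealMod i.ker)) :
    FGA.intNum k X 2 ![ClSub.idealMod i.ker, ClSub.idealMod i.ker] (Coh.structureModule X) -
        FGA.intNum k X 2 ![ClSub.idealMod i.ker, ω] (Coh.structureModule X) =
      -2 * Curv2.euler k C (Coh.structureModule C) := by
  haveI : IsNoetherian X := CurveCohLib.isNoetherian_of_proper (k := k)
  haveI : IsLocallyNoetherian i.ker.subscheme := LocallyOfFiniteType.isLocallyNoetherian i.ker.subschemeι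
  haveI : IsLocallyNoetherian C := LocallyOfFiniteType.isLocallyNoetherian i
  have hrr := rr_of_dual hdim hω h hI
  obtain ⟨q⟩ := ExtShX.nonempty_push_iso_quotMod i
  have hadd := Euler.euler_add k (ExtShX.shortExact_toSubscheme i.ker) (AmpleVan.isCoh_invertible hI)
    (RefX.isCoh_unit (X := X)) (QCoh.isCoh_pushforward_finite i.ker.subschemeι (QCoh.isCoh_structureModule' (X := i.ker.subscheme)))
  change Curv2.euler k X (Coh.structureModule X) =
    Curv2.euler k X (ClSub.idealMod i.ker) + Curv2.euler k X (ClSub.quotMod i.ker) at hadd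
  rw [← Euler.euler_congr k q, AmpleDev.euler_push k i hi (QCoh.isCoh_structureModule' (X := C)).1] at hadd
  linarith

/-- `Hom(L, ω) ≅ ω ⊗ L⁻¹`. -/
theorem nonempty_hom_iso_tensor {L D : X.Modules} (hL : PicF.IsInvertible L) (hLD : PicF.cl L * PicF.cl D = 1)
    (ω : X.Modules) : Nonempty ((SheafHomX.hom L).obj ω ≅ CohB1.tensorMod ω D) := by
  obtain ⟨a⟩ := ExtShX.nonempty_hom_iso_homSh hL (Coh.structureModule X)
  obtain ⟨e⟩ : Nonempty (CohB1.tensorMod D L ≅ Coh.structureModule X) := cl_eq_iff.1 (by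
    rw [cl_tensor, mul_comm, hLD, H23.PicMul.one_def])
  obtain ⟨b⟩ := ExtShX.nonempty_homSh_cancel hL e.symm
  exact ⟨(ExtShX.dualTensorIso (H23.PullPush.isFinLocFree_of_isInvertible hL) ω).symm ≪≫
    ((DCoh.tensorBi (X := X)).obj ω).mapIso (a ≪≫ b)⟩

section Duality

variable {N : ℕ} (ι : X ⟶ CohB1.ProjSpace N k) [IsClosedImmersion ι]
  (hι : ι ≫ CohB1.ProjSpace.toSpec N k = X ↘ Spec (CommRingCat.of k))

include hι in
/-- Euler characteristics under Serre duality on a projective Cohen–Macaulay surface. -/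
theorem euler_dual_of_cm (hn : topologicalKrullDim X = 2) (hCM : ∀ x : X, IsClosed ({x} : Set X) →
      LocCoh.IsCohenMacaulayLocalRing (X.presheaf.stalk x) ∧ ringKrullDim (X.presheaf.stalk x) = 2)
    {ω : X.Modules} (hω : Coh.IsCoh ω) (t : Coh.HH X ω 2 →ₗ[k] k)
    (htop : ∀ G, Coh.IsCoh G → Function.Bijective (Canon.dualityMap k X 2 ω t G))
    {L D : X.Modules} (hL : PicF.IsInvertible L) (hLD : PicF.cl L * PicF.cl D = 1) :
    Curv2.euler k X (CohB1.tensorMod ω D) = Curv2.euler k X L := by
  haveI : IsNoetherian X := CurveCohLib.isNoetherian_of_proper (k := k)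
  haveI : EnoughInjectives X.Modules := inferInstanceAs (EnoughInjectives (SheafOfModules _))
  haveI : HasExt.{u} X.Modules := inferInstance
  have hLc := AmpleVan.isCoh_invertible hL
  have hLf := H23.PullPush.isFinLocFree_of_isInvertible hL
  obtain ⟨φ⟩ := nonempty_hom_iso_tensor hL hLD ω
  have hdual : ∀ j : ℕ, j ≤ 2 → Module.finrank k (Coh.HH X (CohB1.tensorMod ω D) j) =
      Module.finrank k (Coh.HH X L (2 - j)) := fun j hj => by
    obtain ⟨e⟩ := (ExtShX.duality_cm (ι : X ⟶ PnVan.P k N) hι hn hCM hω t htop hLc j).1 hj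
    obtain ⟨g⟩ := PnDual.nonempty_ext_linearEquiv_HH (A := k) hLf ω j
    obtain ⟨h⟩ := ExtShX.nonempty_HH_equiv_of_iso (A := k) φ j
    haveI := CurveCohLib.finite_HH (k := k) hLc (2 - j)
    exact ((e.symm.trans g).trans h).finrank_eq.symm.trans Subspace.dual_finrank_eq
  have h3 : ∀ M : X.Modules, Curv2.euler k X M = (Module.finrank k (Coh.HH X M 0) : ℤ) -
      Module.finrank k (Coh.HH X M 1) + Module.finrank k (Coh.HH X M 2) := fun M => by
    rw [CurveCohLib.euler_eq_sum (N := 3) fun i hi => S0458.result (X := TopCat.of X) 2 (le_of_eq hn) _ i hi]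
    simp [Finset.sum_range_succ]
    ring
  rw [h3, h3, hdual 0 (by omega), hdual 1 (by omega), hdual 2 le_rfl]
  norm_num
  ring

end Duality

/-- Duality on a projective smooth surface. -/
theorem euler_dual_smooth [IsIntegral X] (hdim : topologicalKrullDim X = 2) [Smooth (X ↘ Spec (CommRingCat.of k))]
    {N : ℕ} (ι : X ⟶ CohB1.ProjSpace N k) [IsClosedImmersion ι]
    (hι : ι ≫ CohB1.ProjSpace.toSpec N k = X ↘ Spec (CommRingCat.of k))
    {W : X.Modules} (hW : ExtPow.IsExtPow 2 (Omega.sheaf (X ↘ Spec (CommRingCat.of k))) W)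
    (L D : X.Modules) (hL : PicF.IsInvertible L) (hLD : PicF.cl L * PicF.cl D = 1) :
    Curv2.euler k X (CohB1.tensorMod W D) = Curv2.euler k X L := by
  haveI := SurfStab.smoothOfRelativeDimension_two (k := k) hdim
  obtain ⟨hWc, t, ht⟩ := ExtShX.SmoothDual.exists_dualizing (n := 2) (ι : X ⟶ PnVan.P k N) hι hW
  exact euler_dual_of_cm ι hι hdim
    (fun x hx => ExtShX.SmoothDual.cm_hyp (X ↘ Spec (CommRingCat.of k)) 2 x hx) hWc t ht hL hLD

end Groth.Agent.SurfRR
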