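import Groth.Agent.SurfRR.Dual
import Groth.Agent.Big.NegDef
import Groth.Agent.CurveReg.Nef
import Groth.Agent.Lib.CurveRR

/-!
# Numerical invariants of an integral curve on a smooth surface
-/

set_option linter.style.haveILetI false
set_option linter.unusedSectionVars false
set_option backward.isDefEq.respectTransparency false
set_option backward.isDefEq.respectTransparency.types false

universe u

open CategoryTheory CategoryTheory.Limits AlgebraicGeometry TopologicalSpace
open Groth.Agent.H23.PicMul

noncomputable section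

namespace Groth.Agent.SurfRR

open Groth.Agent

variable (k : Type u) [Field k] {X : Scheme.{u}} [X.Over (Spec (CommRingCat.of k))]
  [IsProper (X ↘ Spec (CommRingCat.of k))] [IsIntegral X]

/-- Intersection with an inverse changes the sign. -/
theorem intNum_inverse (hdim : topologicalKrullDim X = 2) {L D M : X.Modules} (hL : PicF.IsInvertible L)
    (hD : PicF.IsInvertible D) (hLD : PicF.cl L * PicF.cl D = 1) (hM : PicF.IsInvertible M) :
    FGA.intNum k X 2 ![M, D] (Coh.structureModule X) = -FGA.intNum k X 2 ![M, L] (Coh.structureModule X) := by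
  have h := Big.pair_inverse k hdim.le hL hD hLD hM
  rw [Big.NegDef.dot_symm k hdim hM hD, Big.NegDef.dot_symm k hdim hM hL]
  have : (FGA.intNum k X 2 ![D, M] (Coh.structureModule X) : ℚ) =
      -(FGA.intNum k X 2 ![L, M] (Coh.structureModule X) : ℚ) := by
    rw [Big.intNum_eq_pair k hdim.le hD hM, Big.intNum_eq_pair k hdim.le hL hM, h]
  exact_mod_cast this

/-- The degree of the inverse of the ideal on the curve is the self-intersection. -/
theorem deg_normal (hdim : topologicalKrullDim X = 2) {I : X.IdealSheafData}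
    (hI : PicF.IsInvertible (ClSub.idealMod I)) {N : X.Modules} (hN : ClSub.IsInverseOf N (ClSub.idealMod I)) :
    Curv2.euler k X (CohB1.tensorMod (ClSub.quotMod I) N) - Curv2.euler k X (ClSub.quotMod I) =
      FGA.intNum k X 2 ![ClSub.idealMod I, ClSub.idealMod I] (Coh.structureModule X) := by
  obtain ⟨δ⟩ := hN
  have hcl : PicF.cl (ClSub.idealMod I) * PicF.cl N = 1 := by
    rw [mul_comm]
    exact Big.cl_mul_eq_one ⟨δ⟩
  obtain ⟨D, hD, ⟨ε⟩⟩ := H23.PicInv.exists_inverse hI
  have hNi : PicF.IsInvertible N := by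
    obtain ⟨i⟩ := cl_eq_iff.1 ((H23.PicMul.isUnit_cl hI).mul_left_cancel
      ((Big.cl_mul_eq_one ⟨ε⟩).trans hcl.symm))
    exact H23.PicMul.isInvertible_of_iso i hD
  have h1 := Big.NegDef.dot_eq_euler k hdim hI hNi
  have h2 := intNum_inverse k hdim hI hNi hcl hI
  linarith

variable [Smooth (X ↘ Spec (CommRingCat.of k))]

/-- Adjunction for an integral curve. -/
theorem adjunction_curve (hdim : topologicalKrullDim X = 2) {W : X.Modules}
    (hW : ExtPow.IsExtPow 2 (Omega.sheaf (X ↘ Spec (CommRingCat.of k))) W) {I : X.IdealSheafData}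
    (hI : PicF.IsInvertible (ClSub.idealMod I)) :
    FGA.intNum k X 2 ![ClSub.idealMod I, ClSub.idealMod I] (Coh.structureModule X) -
        FGA.intNum k X 2 ![ClSub.idealMod I, W] (Coh.structureModule X) =
      -2 * Curv2.euler k X (ClSub.quotMod I) := by
  letI : I.subscheme.Over (Spec (CommRingCat.of k)) := ⟨I.subschemeι ≫ (X ↘ Spec (CommRingCat.of k))⟩
  haveI := SurfStab.smoothOfRelativeDimension_two (k := k) hdim
  have hk : I.subschemeι.ker = I := I.ker_subschemeι
  have h := adjunction_of_dual hdim.le (TopDiff.isInvertible_of_isExtPow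
    (TopDiff.isFinLocFreeOfRank_omega (X ↘ Spec (CommRingCat.of k)) 2) hW)
    (fun L D hL _ hLD => euler_dual_integral k hdim hW L D hL hLD) I.subschemeι rfl (hk.symm ▸ hI)
  rw [hk] at h
  rw [h]
  congr 1
  exact (AmpleDev.euler_push k I.subschemeι rfl QCoh.isQCoh_structureModule).symm

omit [Smooth (X ↘ Spec (CommRingCat.of k))] [IsIntegral X] in
/-- `χ(O_C) = 1 - h¹(O_C)` for an integral curve over an algebraically closed field. -/
theorem euler_quot_curve [IsAlgClosed k] {I : X.IdealSheafData} [IsIntegral I.subscheme]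
    (hId : topologicalKrullDim (I.support : Set X) = 1) :
    letI : I.subscheme.Over (Spec (CommRingCat.of k)) := ⟨I.subschemeι ≫ (X ↘ Spec (CommRingCat.of k))⟩
    Curv2.euler k X (ClSub.quotMod I) =
      1 - (Module.finrank k (Coh.HH I.subscheme (Coh.structureModule I.subscheme) 1) : ℤ) := by
  letI : I.subscheme.Over (Spec (CommRingCat.of k)) := ⟨I.subschemeι ≫ (X ↘ Spec (CommRingCat.of k))⟩
  haveI : IsProper (I.subscheme ↘ Spec (CommRingCat.of k)) :=
    inferInstanceAs (IsProper (I.subschemeι ≫ (X ↘ Spec (CommRingCat.of k))))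
  have hd : topologicalKrullDim I.subscheme = 1 :=
    (AmpleDev.dim_eq_one_of_closedImmersion I.subschemeι I.range_subschemeι).trans hId
  show Curv2.euler k X ((Coh.push I.subschemeι).obj (Coh.structureModule I.subscheme)) = _
  rw [AmpleDev.euler_push k I.subschemeι rfl QCoh.isQCoh_structureModule,
    CurveRR.euler_eq_h0_sub_h1 k hd.le QCoh.isQCoh_structureModule, CurveReg.finrank_h0_integral]
  rfl

end Groth.Agent.SurfRR
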