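import Groth.Agent.SurfRR.MulSeq
import Groth.Agent.SurfRR.CurveNum
import Groth.Agent.SurfRR.Connected
import Groth.Agent.CartierExt.Decompose
import Groth.Agent.Big.SurfCurve
import Groth.Agent.Big.AffineBoundary
import Groth.Agent.CurveReg.NefBC
import Groth.Agent.ExtPowSh.Basic

/-!
# Chains of curves in an effective divisor on a surface
-/

set_option autoImplicit false
set_option linter.style.haveILetI false
set_option linter.unusedSectionVars false
set_option backward.isDefEq.respectTransparency false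
set_option backward.isDefEq.respectTransparency.types false

universe u

open CategoryTheory CategoryTheory.Limits AlgebraicGeometry TopologicalSpace
open Groth.Agent.H23.PicMul

noncomputable section

namespace Groth.Agent.SurfRR.Chain

open Groth.Agent ModPairLib

variable (k : Type u) [Field k] {X : Scheme.{u}} [X.Over (Spec (CommRingCat.of k))]
  [IsProper (X ↘ Spec (CommRingCat.of k))] [Smooth (X ↘ Spec (CommRingCat.of k))] [IsIntegral X]
  (hdim : topologicalKrullDim X = 2)

/-- An integral curve on the surface. -/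
def IsCurve (C : X.IdealSheafData) : Prop :=
  BlowUp.IsEffCartierIdeal C ∧ IsIntegral C.subscheme ∧ topologicalKrullDim (C.support : Set X) = 1

omit [Smooth (X ↘ Spec (CommRingCat.of k))] [IsIntegral X] [IsProper (X ↘ Spec (CommRingCat.of k))]
  [X.Over (Spec (CommRingCat.of k))] [Field k] in
theorem support_nonempty {D : X.IdealSheafData} (hne : D ≠ ⊤) : (D.support : Set X).Nonempty := by
  by_contra h
  exact hne ((Scheme.IdealSheafData.support_eq_bot_iff _).1 (Closeds.ext (Set.not_nonempty_iff_eq_empty.1 h)))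

omit [Smooth (X ↘ Spec (CommRingCat.of k))] [IsIntegral X] [IsProper (X ↘ Spec (CommRingCat.of k))]
  [X.Over (Spec (CommRingCat.of k))] [Field k] in
theorem ne_top_of_isCurve {C : X.IdealSheafData} (hC : IsCurve C) : C ≠ ⊤ := by
  intro h
  haveI := hC.2.1
  have h3 := Scheme.IdealSheafData.range_subschemeι C
  rw [h, Scheme.IdealSheafData.support_top] at h3
  obtain ⟨z⟩ : Nonempty ↥(⊤ : X.IdealSheafData).subscheme := h ▸ inferInstance
  exact (h3.le ⟨z, rfl⟩ : _ ∈ (∅ : Set X))

omit [Smooth (X ↘ Spec (CommRingCat.of k))] [IsIntegral X] [IsProper (X ↘ Spec (CommRingCat.of k))]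
  [X.Over (Spec (CommRingCat.of k))] [Field k] in
theorem le_mul_left {D C : X.IdealSheafData} : D * C ≤ D := fun U => by
  rw [Scheme.IdealSheafData.ideal_mul, Pi.mul_apply]
  exact Ideal.mul_le_left

omit [Smooth (X ↘ Spec (CommRingCat.of k))] [IsIntegral X] [IsProper (X ↘ Spec (CommRingCat.of k))]
  [X.Over (Spec (CommRingCat.of k))] [Field k] in
theorem le_mul_right {D C : X.IdealSheafData} : D * C ≤ C := fun U => by
  rw [Scheme.IdealSheafData.ideal_mul, Pi.mul_apply]
  exact Ideal.mul_le_right

omit [Smooth (X ↘ Spec (CommRingCat.of k))] [IsIntegral X] [IsProper (X ↘ Spec (CommRingCat.of k))]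
  [X.Over (Spec (CommRingCat.of k))] [Field k] in
theorem lt_mul {D C : X.IdealSheafData} (hD : BlowUp.IsEffCartierIdeal D) (hC : BlowUp.IsEffCartierIdeal C)
    (hne : C ≠ ⊤) : D * C < D := by
  refine lt_of_le_of_ne le_mul_left fun h => hne ?_
  have h' : C * D = (⊤ : X.IdealSheafData) * D := by
    rw [Scheme.IdealSheafData.top_mul, mul_comm, h]
  exact eq_of_mul_eq_mul hD h'

include k hdim in
/-- A divisor splits off any curve in it. -/
theorem exists_split {D C : X.IdealSheafData} (hD : BlowUp.IsEffCartierIdeal D) (hC : IsCurve C) (hle : D ≤ C) :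
    ∃ D' : X.IdealSheafData, BlowUp.IsEffCartierIdeal D' ∧ D = D' * C ∧ D < D' := by
  let D' := colon D C (isLocPrincipal_of_isEffCartier hC.1)
  have hmul : D' * C = D := colon_mul hC.1 hle
  have hD' : BlowUp.IsEffCartierIdeal D' := isEffCartier_of_mul hC.1 (by rw [hmul]; exact hD)
  exact ⟨D', hD', hmul.symm, hmul ▸ lt_mul hD' hC.1 (ne_top_of_isCurve hC)⟩

include k hdim in
/-- A nonzero divisor contains a curve. -/
theorem exists_curve_le {D : X.IdealSheafData} (hD : BlowUp.IsEffCartierIdeal D) (hne : D ≠ ⊤) :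
    ∃ C : X.IdealSheafData, IsCurve C ∧ D ≤ C := by
  haveI : IsNoetherian X := CurveCohLib.isNoetherian_of_proper (k := k)
  obtain ⟨x, hx⟩ := support_nonempty hne
  obtain ⟨η, hη, -, hd⟩ := Big.AffineBd.exists_curve_generization k hdim hD hx
  refine ⟨_, ⟨Big.isEffCartier_closure k hdim hd, QCoh.isIntegral_closure_point η, ?_⟩,
    Scheme.IdealSheafData.le_support_iff_le_vanishingIdeal.1 ?_⟩
  · rw [← Scheme.IdealSheafData.range_subschemeι, H23.RedSub.range_vanishingIdeal]
    exact hd
  · exact D.support.isClosed.closure_subset_iff.2 (Set.singleton_subset_iff.2 hη)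

include k hdim in
/-- A nonzero divisor is a curve plus a smaller divisor. -/
theorem exists_curve_split {D : X.IdealSheafData} (hD : BlowUp.IsEffCartierIdeal D) (hne : D ≠ ⊤) :
    ∃ C D' : X.IdealSheafData, IsCurve C ∧ BlowUp.IsEffCartierIdeal D' ∧ D = D' * C ∧ D < D' := by
  obtain ⟨C, hC, hle⟩ := exists_curve_le k hdim hD hne
  obtain ⟨D', h⟩ := exists_split k hdim hD hC hle
  exact ⟨C, D', hC, h⟩

include k hdim in
/-- An additive function negative on a divisor is negative on one of its curves. -/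
theorem exists_component_neg (φ : X.IdealSheafData → ℤ)
    (hφ : ∀ A B : X.IdealSheafData, BlowUp.IsEffCartierIdeal A → BlowUp.IsEffCartierIdeal B → φ (A * B) = φ A + φ B)
    {D : X.IdealSheafData} (hD : BlowUp.IsEffCartierIdeal D) (hneg : φ D < 0) :
    ∃ C : X.IdealSheafData, IsCurve C ∧ D ≤ C ∧ φ C < 0 := by
  haveI : IsNoetherian X := CurveCohLib.isNoetherian_of_proper (k := k)
  haveI := H23.FinCondSch.wellFoundedGT (X := X)
  revert hD hneg
  induction D using WellFoundedGT.induction with
  | ind D ih =>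
    intro hD hneg
    have hne : D ≠ ⊤ := by
      rintro rfl
      have h := hφ ⊤ ⊤ hD hD
      rw [Scheme.IdealSheafData.top_mul] at h
      omega
    obtain ⟨C, D', hC, hD', heq, hlt⟩ := exists_curve_split k hdim hD hne
    by_cases h : φ C < 0
    · exact ⟨C, hC, heq ▸ le_mul_right, h⟩
    · have := hφ D' C hD' hC.1
      rw [← heq] at this
      obtain ⟨C', hC', hle, h'⟩ := ih D' hlt hD' (by omega)
      exact ⟨C', hC', hlt.le.trans hle, h'⟩

include hdim in
/-- Additivity of the pairing in the divisor. -/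
theorem intNum_mul {A B : X.IdealSheafData} (hA : BlowUp.IsEffCartierIdeal A) (hB : BlowUp.IsEffCartierIdeal B)
    {M : X.Modules} (hM : PicF.IsInvertible M) :
    FGA.intNum k X 2 ![ClSub.idealMod (A * B), M] (Coh.structureModule X) =
      FGA.intNum k X 2 ![ClSub.idealMod A, M] (Coh.structureModule X) +
        FGA.intNum k X 2 ![ClSub.idealMod B, M] (Coh.structureModule X) := by
  have hAi := Big.isInvertible_ideal hA
  have hBi := Big.isInvertible_ideal hB
  have hABi := Big.isInvertible_ideal (isEffCartier_mul hA hB)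
  have h := Big.pair_add k hdim.le hAi hBi hM
  rw [← Big.pair_congr k (L := ClSub.idealMod (A * B)) (M := M) (by rw [cl_tensor]; exact cl_idealMod_mul hA hB),
    ← Big.intNum_eq_pair k hdim.le hABi hM, ← Big.intNum_eq_pair k hdim.le hAi hM,
    ← Big.intNum_eq_pair k hdim.le hBi hM] at h
  exact_mod_cast h

include k hdim in
theorem dim_subscheme_le {D : X.IdealSheafData} (hD : BlowUp.IsEffCartierIdeal D) :
    topologicalKrullDim D.subscheme ≤ ((1 : ℕ) : WithBot ℕ∞) := by
  have h := Big.dim_support_le k hD (e := 1) hdim.le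
  rw [← D.range_subschemeι] at h
  exact (IsHomeomorph.topologicalKrullDim_eq _ D.subschemeι.isEmbedding.toHomeomorph.isHomeomorph).trans_le h

include hdim in
/-- A divisor without first cohomology has positive Euler characteristic. -/
theorem one_le_euler {D : X.IdealSheafData} (hD : BlowUp.IsEffCartierIdeal D) (hne : D ≠ ⊤)
    (h1 : Subsingleton (Coh.HH X (ClSub.quotMod D) 1)) : 1 ≤ Curv2.euler k X (ClSub.quotMod D) := by
  letI : D.subscheme.Over (Spec (CommRingCat.of k)) := ⟨D.subschemeι ≫ (X ↘ Spec (CommRingCat.of k))⟩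
  haveI : IsProper (D.subscheme ↘ Spec (CommRingCat.of k)) :=
    inferInstanceAs (IsProper (D.subschemeι ≫ (X ↘ Spec (CommRingCat.of k))))
  haveI : IsNoetherian D.subscheme := CurveCohLib.isNoetherian_of_proper (k := k)
  show 1 ≤ Curv2.euler k X ((Coh.push D.subschemeι).obj (Coh.structureModule D.subscheme))
  rw [AmpleDev.euler_push k D.subschemeι rfl QCoh.isQCoh_structureModule,
    CurveReg.euler_eq k ((dim_subscheme_le k hdim hD).trans Nat.cast_one.le) QCoh.isCoh_structureModule']
  obtain ⟨l⟩ := PnCoh.exists_linearEquiv_push k D.subschemeι rfl (QCoh.isQCoh_structureModule (X := D.subscheme)) 1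
  haveI : Subsingleton (Coh.HH D.subscheme (Coh.structureModule D.subscheme) 1) := by
    haveI : Subsingleton (Coh.HH X ((Coh.push D.subschemeι).obj (Coh.structureModule D.subscheme)) 1) := h1
    exact l.toEquiv.subsingleton
  haveI := CurveCohLib.finite_HH (k := k) (QCoh.isCoh_structureModule' (X := D.subscheme)) 0
  obtain ⟨x, hx⟩ := support_nonempty hne
  obtain ⟨z, -⟩ : x ∈ Set.range D.subschemeι := by rwa [D.range_subschemeι]
  have h0 : 0 < Module.finrank k (Coh.HH D.subscheme (Coh.structureModule D.subscheme) 0) := by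
    refine Module.finrank_pos_iff_exists_ne_zero.2
      ⟨(Sheaf.H.equiv₀ (Coh.toAb (Coh.structureModule D.subscheme)) isTerminalTop).symm (1 : Γ(D.subscheme, ⊤)), fun h => ?_⟩
    have h' := ((Sheaf.H.equiv₀ (Coh.toAb (Coh.structureModule D.subscheme)) isTerminalTop).apply_symm_apply
      (show Γ(Coh.structureModule D.subscheme, ⊤) from (1 : Γ(D.subscheme, ⊤)))).symm.trans ((congrArg _ h).trans (map_zero _))
    haveI : Nonempty (⊤ : D.subscheme.Opens) := ⟨⟨z, trivial⟩⟩
    exact one_ne_zero (α := Γ(D.subscheme, ⊤)) h'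
  rw [Module.finrank_zero_of_subsingleton (M := Coh.HH D.subscheme (Coh.structureModule D.subscheme) 1)]
  omega

omit [IsIntegral X] [Smooth (X ↘ Spec (CommRingCat.of k))] in
/-- No first cohomology in degree at least `-1` on a curve of genus zero. -/
theorem subsingleton_h1_curve [IsAlgClosed k] {I : X.IdealSheafData} [IsIntegral I.subscheme]
    (hId : topologicalKrullDim (I.support : Set X) = 1) (h1 : Subsingleton (Coh.HH X (ClSub.quotMod I) 1))
    {M : X.Modules} (hM : PicF.IsInvertible M)
    (hdeg : -1 ≤ Curv2.euler k X (CohB1.tensorMod (ClSub.quotMod I) M) - Curv2.euler k X (ClSub.quotMod I)) :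
    Subsingleton (Coh.HH X (CohB1.tensorMod (ClSub.quotMod I) M) 1) := by
  letI : I.subscheme.Over (Spec (CommRingCat.of k)) := ⟨I.subschemeι ≫ (X ↘ Spec (CommRingCat.of k))⟩
  haveI : IsProper (I.subscheme ↘ Spec (CommRingCat.of k)) :=
    inferInstanceAs (IsProper (I.subschemeι ≫ (X ↘ Spec (CommRingCat.of k))))
  haveI : IsNoetherian I.subscheme := CurveCohLib.isNoetherian_of_proper (k := k)
  have hd : topologicalKrullDim I.subscheme = 1 :=
    (AmpleDev.dim_eq_one_of_closedImmersion I.subschemeι I.range_subschemeι).trans hId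
  obtain ⟨l⟩ := PnCoh.exists_linearEquiv_push k I.subschemeι rfl (QCoh.isQCoh_structureModule (X := I.subscheme)) 1
  have h1' : Subsingleton (Coh.HH I.subscheme (Coh.structureModule I.subscheme) 1) := by
    haveI : Subsingleton (Coh.HH X ((Coh.push I.subschemeι).obj (Coh.structureModule I.subscheme)) 1) := h1
    exact l.toEquiv.subsingleton
  let M' := (Scheme.Modules.pullback I.subschemeι).obj M
  have hM' : PicF.IsInvertible M' := PicClLib.isInvertible_pullback _ hM
  have hM'c := CurveDeg.isCoh_of_isInvertible hM'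
  haveI := CurveCohLib.finite_HH (k := k) hM'c 1
  obtain ⟨e⟩ := AmpleDev.push_tensor_iso I.subschemeι hM (Coh.structureModule I.subscheme)
  obtain ⟨φ⟩ : Nonempty (CohB1.tensorMod (Coh.structureModule I.subscheme) M' ≅ M') := cl_eq_iff.1 (by
    rw [cl_tensor, ← H23.PicMul.one_def, one_mul])
  have hfin : Subsingleton (Coh.HH I.subscheme M' 1) := by
    rw [AmpleDev.euler_sub_eq_deg k I hM] at hdeg
    change -1 ≤ Curv2.deg k I.subscheme M' 1 at hdeg
    rcases le_or_gt 0 (Curv2.deg k I.subscheme M' 1) with h | h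
    · have hc := CurveReg.cover_of_deg_nonneg k hd.le h1' hM' fun _ => h
      exact QCoh.subsingleton_HH_of_iso φ 1
        (CurveReg.subsingleton_h1_twist k hd.le QCoh.isQCoh_structureModule hM' hc h1')
    · refine (Module.finrank_zero_iff (R := k)).1 ?_
      have h0 : Module.finrank k (Coh.HH I.subscheme M' 0) = 0 := by
        by_contra h0
        obtain ⟨s, hs⟩ := CurveRR.exists_hom_ne_zero k (P := M') h0
        have h3 := (CurveDeg.euler_le_and_isIso k hd.le CurveDeg.isInvertible_structureModule hM' s hs).1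
        have h2 : Curv2.deg k I.subscheme M' 1 = Curv2.euler k I.subscheme M' - Curv2.euler k I.subscheme (Coh.structureModule I.subscheme) := by
          simp [Curv2.deg]
        omega
      have hO : Curv2.euler k I.subscheme (Coh.structureModule I.subscheme) = 1 := by
        rw [CurveRR.euler_eq_h0_sub_h1 k hd.le QCoh.isQCoh_structureModule, CurveReg.finrank_h0_integral,
          Module.finrank_zero_of_subsingleton (M := Coh.HH I.subscheme (Coh.structureModule I.subscheme) 1)]
        rfl
      have h2 : Curv2.deg k I.subscheme M' 1 = Curv2.euler k I.subscheme M' - Curv2.euler k I.subscheme (Coh.structureModule I.subscheme) := by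
        simp [Curv2.deg]
      rw [CurveRR.euler_eq_h0_sub_h1 k hd.le hM'c.1, h0, hO] at h2
      omega
  obtain ⟨l'⟩ := PnCoh.exists_linearEquiv_push k I.subschemeι rfl (ProjUPX.isQCoh_of_isInvertible hM') 1
  exact QCoh.subsingleton_HH_of_iso (e ≪≫ (Coh.push I.subschemeι).mapIso φ).symm 1 l'.symm.toEquiv.subsingleton

include hdim in
/-- Adding a rational curve to a divisor without first cohomology. -/
theorem subsingleton_h1_add [IsAlgClosed k] {C D : X.IdealSheafData} (hC : IsCurve C) (hD : BlowUp.IsEffCartierIdeal D)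
    (hC1 : Subsingleton (Coh.HH X (ClSub.quotMod C) 1)) (hD1 : Subsingleton (Coh.HH X (ClSub.quotMod D) 1))
    (hCD : FGA.intNum k X 2 ![ClSub.idealMod C, ClSub.idealMod D] (Coh.structureModule X) ≤ 1) :
    Subsingleton (Coh.HH X (ClSub.quotMod (C * D)) 1) := by
  haveI : IsNoetherian X := CurveCohLib.isNoetherian_of_proper (k := k)
  haveI := hC.2.1
  obtain ⟨f, g, w, hS, -⟩ := MulSeq.exists_seq C D hC.1 hD
  rw [Big.NegDef.dot_eq_euler k hdim (Big.isInvertible_ideal hC.1) (Big.isInvertible_ideal hD)] at hCD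
  exact QCoh.subsingleton_HH_X₂ hS 1
    (subsingleton_h1_curve k hC.2.2 hC1 (Big.isInvertible_ideal hD) (by linarith)) hD1

include hdim in
/-- The vanishing of first cohomology by induction on the divisor. -/
theorem subsingleton_h1_induction [IsAlgClosed k] (P : X.IdealSheafData → Prop)
    (hstep : ∀ D : X.IdealSheafData, BlowUp.IsEffCartierIdeal D → D ≠ ⊤ → P D →
      ∃ C D' : X.IdealSheafData, IsCurve C ∧ BlowUp.IsEffCartierIdeal D' ∧ D = C * D' ∧
        Subsingleton (Coh.HH X (ClSub.quotMod C) 1) ∧ (D' ≠ ⊤ → P D' ∧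
          FGA.intNum k X 2 ![ClSub.idealMod C, ClSub.idealMod D'] (Coh.structureModule X) ≤ 1))
    {D : X.IdealSheafData} (hD : BlowUp.IsEffCartierIdeal D) (hne : D ≠ ⊤) (hP : P D) :
    Subsingleton (Coh.HH X (ClSub.quotMod D) 1) := by
  haveI : IsNoetherian X := CurveCohLib.isNoetherian_of_proper (k := k)
  haveI := H23.FinCondSch.wellFoundedGT (X := X)
  revert hD hne hP
  induction D using WellFoundedGT.induction with
  | ind D ih =>
    intro hD hne hP
    obtain ⟨C, D', hC, hD', heq, hC1, h⟩ := hstep D hD hne hP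
    by_cases htop : D' = ⊤
    · rw [heq, htop, mul_comm, Scheme.IdealSheafData.top_mul]
      exact hC1
    · obtain ⟨hP', hdot⟩ := h htop
      have hlt : D < D' := by
        rw [heq, mul_comm]
        exact lt_mul hD' hC.1 (ne_top_of_isCurve hC)
      rw [heq]
      exact subsingleton_h1_add k hdim hC hD' hC1 (ih D' hlt hD' htop hP') hdot

omit [IsIntegral X] [Smooth (X ↘ Spec (CommRingCat.of k))] in
/-- A curve has no first cohomology exactly when its Euler characteristic is one. -/
theorem curve_h1_iff [IsAlgClosed k] {C : X.IdealSheafData} (hC : IsCurve C) :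
    Curv2.euler k X (ClSub.quotMod C) ≤ 1 ∧
      (Subsingleton (Coh.HH X (ClSub.quotMod C) 1) ↔ Curv2.euler k X (ClSub.quotMod C) = 1) := by
  haveI := hC.2.1
  letI : C.subscheme.Over (Spec (CommRingCat.of k)) := ⟨C.subschemeι ≫ (X ↘ Spec (CommRingCat.of k))⟩
  haveI : IsProper (C.subscheme ↘ Spec (CommRingCat.of k)) :=
    inferInstanceAs (IsProper (C.subschemeι ≫ (X ↘ Spec (CommRingCat.of k))))
  haveI : IsNoetherian C.subscheme := CurveCohLib.isNoetherian_of_proper (k := k)
  haveI := CurveCohLib.finite_HH (k := k) (QCoh.isCoh_structureModule' (X := C.subscheme)) 1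
  have h : Curv2.euler k X (ClSub.quotMod C) =
      1 - (Module.finrank k (Coh.HH C.subscheme (Coh.structureModule C.subscheme) 1) : ℤ) :=
    euler_quot_curve k hC.2.2
  obtain ⟨l⟩ := PnCoh.exists_linearEquiv_push k C.subschemeι rfl (QCoh.isQCoh_structureModule (X := C.subscheme)) 1
  refine ⟨by omega, ⟨fun h1 => ?_, fun he => ?_⟩⟩
  · haveI : Subsingleton (Coh.HH C.subscheme (Coh.structureModule C.subscheme) 1) := by
      haveI : Subsingleton (Coh.HH X ((Coh.push C.subschemeι).obj (Coh.structureModule C.subscheme)) 1) := h1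
      exact l.toEquiv.subsingleton
    rw [h, Module.finrank_zero_of_subsingleton (M := Coh.HH C.subscheme (Coh.structureModule C.subscheme) 1)]
    rfl
  · haveI : Subsingleton (Coh.HH C.subscheme (Coh.structureModule C.subscheme) 1) :=
      (Module.finrank_zero_iff (R := k)).1 (by omega)
    exact l.symm.toEquiv.subsingleton

include hdim in
theorem exists_canonical :
    ∃ W : X.Modules, ExtPow.IsExtPow 2 (Omega.sheaf (X ↘ Spec (CommRingCat.of k))) W ∧ PicF.IsInvertible W := by
  haveI := SurfStab.smoothOfRelativeDimension_two (k := k) hdim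
  have hΩ := TopDiff.isFinLocFreeOfRank_omega (X ↘ Spec (CommRingCat.of k)) 2
  obtain h := ExtPowSh.isExtPow (i := 2) (E := Omega.sheaf (X ↘ Spec (CommRingCat.of k)))
    (QCoh.isQCoh_of_isFinLocFree (fun x => let ⟨U, hx, e⟩ := hΩ x; ⟨U, 2, hx, e⟩))
  exact ⟨_, h, TopDiff.isInvertible_of_isExtPow hΩ h⟩

include hdim in
/-- Two sided form of adjunction along a curve in a divisor. -/
theorem intNum_split {C D : X.IdealSheafData} (hC : BlowUp.IsEffCartierIdeal C) (hD : BlowUp.IsEffCartierIdeal D) :
    FGA.intNum k X 2 ![ClSub.idealMod C, ClSub.idealMod (C * D)] (Coh.structureModule X) =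
      FGA.intNum k X 2 ![ClSub.idealMod C, ClSub.idealMod C] (Coh.structureModule X) +
        FGA.intNum k X 2 ![ClSub.idealMod C, ClSub.idealMod D] (Coh.structureModule X) := by
  have hCi := Big.isInvertible_ideal hC
  have hDi := Big.isInvertible_ideal hD
  rw [Big.NegDef.dot_symm k hdim hCi (Big.isInvertible_ideal (isEffCartier_mul hC hD)),
    intNum_mul k hdim hC hD hCi, Big.NegDef.dot_symm k hdim hDi hCi]

include hdim in
/-- Positive arithmetic characteristic of all parts forces the vanishing of first cohomology. -/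
theorem subsingleton_h1_of_euler_pos [IsAlgClosed k] {Z : X.IdealSheafData} (hZ : BlowUp.IsEffCartierIdeal Z)
    (hne : Z ≠ ⊤)
    (hpos : ∀ Z' J : X.IdealSheafData, BlowUp.IsEffCartierIdeal Z' → BlowUp.IsEffCartierIdeal J → Z' ≠ ⊤ →
      Z = Z' * J → 1 ≤ Curv2.euler k X (ClSub.quotMod Z')) :
    Subsingleton (Coh.HH X (ClSub.quotMod Z) 1) := by
  obtain ⟨W, hW, hWi⟩ := exists_canonical k hdim
  refine subsingleton_h1_induction k hdim (fun D => ∃ J, BlowUp.IsEffCartierIdeal J ∧ Z = D * J) ?_ hZ hne
    ⟨⊤, BlowUpX.isEffCartier_top, by rw [mul_comm, Scheme.IdealSheafData.top_mul]⟩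
  rintro D hD hDne ⟨J, hJ, hZJ⟩
  let φ : X.IdealSheafData → ℤ := fun E =>
    FGA.intNum k X 2 ![ClSub.idealMod E, ClSub.idealMod D] (Coh.structureModule X) -
      FGA.intNum k X 2 ![ClSub.idealMod E, W] (Coh.structureModule X)
  have hDi := Big.isInvertible_ideal hD
  have h1 := adjunction_curve k hdim hW hDi
  have h2 := hpos D J hD hJ hDne hZJ
  obtain ⟨C, hC, hle, hφ⟩ := exists_component_neg k hdim φ (fun A B hA hB => by
    simp only [φ]
    rw [intNum_mul k hdim hA hB hDi, intNum_mul k hdim hA hB hWi]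
    ring) hD (show φ D < 0 by simp only [φ]; omega)
  obtain ⟨D', hD', heq, -⟩ := exists_split k hdim hD hC hle
  rw [mul_comm] at heq
  obtain ⟨hle1, hiff⟩ := curve_h1_iff k hC
  have h3 := hpos C (D' * J) hC.1 (isEffCartier_mul hD' hJ) (ne_top_of_isCurve hC) (by rw [hZJ, heq, mul_assoc])
  refine ⟨C, D', hC, hD', heq, hiff.2 (by omega), fun _ => ⟨⟨C * J, isEffCartier_mul hC.1 hJ, ?_⟩, ?_⟩⟩
  · rw [hZJ, heq, mul_comm C D', mul_assoc]
  · have h4 := adjunction_curve k hdim hW (Big.isInvertible_ideal hC.1)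
    have h5 := intNum_split k hdim hC.1 hD'
    rw [← heq] at h5
    simp only [φ] at hφ
    omega

include k hdim in
/-- An integral one-dimensional closed subscheme is a curve. -/
theorem isCurve_of_integral {C : X.IdealSheafData} (hCi : IsIntegral C.subscheme)
    (hCd : topologicalKrullDim (C.support : Set X) = 1) : IsCurve C := by
  haveI := hCi
  refine ⟨?_, hCi, hCd⟩
  let η : X := C.subschemeι (genericPoint C.subscheme)
  have hs : (C.support : Set X) = closure {η} := by
    have h := C.range_subschemeι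
    refine (h.symm.trans ?_)
    refine subset_antisymm ?_ ((IsClosedImmersion.base_closed (f := C.subschemeι)).isClosed_range.closure_subset_iff.2
      (Set.singleton_subset_iff.2 ⟨_, rfl⟩))
    rintro _ ⟨z, rfl⟩
    exact ((genericPoint_specializes z).map C.subschemeι.continuous).mem_closure
  have hC : C = Scheme.IdealSheafData.vanishingIdeal (Closeds.closure {η}) := by
    rw [← CartierExt.radical_eq_of_isReduced C, ← Scheme.IdealSheafData.vanishingIdeal_support]
    exact congrArg _ (Closeds.ext hs)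
  rw [hC]
  exact Big.isEffCartier_closure k hdim (hs ▸ hCd)

include hdim in
/-- A negative definite configuration of `(-2)`-curves has no first cohomology on its divisors. -/
theorem subsingleton_h1_of_minusTwo [IsAlgClosed k] {r : ℕ} (C : Fin r → X.IdealSheafData) (hC : ∀ i, IsCurve (C i))
    (hCrat : ∀ i, Subsingleton (Coh.HH X (ClSub.quotMod (C i)) 1))
    (hC2 : ∀ i, -2 ≤ FGA.intNum k X 2 ![ClSub.idealMod (C i), ClSub.idealMod (C i)] (Coh.structureModule X))
    (hneg : ∀ a : Fin r → ℤ, a ≠ 0 →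
      ∑ i, ∑ j, a i * a j * FGA.intNum k X 2 ![ClSub.idealMod (C i), ClSub.idealMod (C j)] (Coh.structureModule X) < 0)
    {Z : X.IdealSheafData} (hZ : BlowUp.IsEffCartierIdeal Z) (hne : Z ≠ ⊤)
    (hZs : (Z.support : Set X) ⊆ ⋃ i, ((C i).support : Set X)) :
    Subsingleton (Coh.HH X (ClSub.quotMod Z) 1) := by
  classical
  haveI : IsNoetherian X := CurveCohLib.isNoetherian_of_proper (k := k)
  refine subsingleton_h1_induction k hdim (fun D => (D.support : Set X) ⊆ ⋃ i, ((C i).support : Set X)) ?_ hZ hne hZs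
  intro D hD hDne hDs
  obtain ⟨a, ha⟩ := CartierExt.exists_prod_eq C (fun i => (hC i).1) (fun i => (hC i).2.1) D hD hDs
  have hE : ∀ (b : Fin r → ℕ) (t : Finset (Fin r)), BlowUp.IsEffCartierIdeal (∏ i ∈ t, C i ^ b i) ∧
      ∀ M : X.Modules, PicF.IsInvertible M →
        FGA.intNum k X 2 ![ClSub.idealMod (∏ i ∈ t, C i ^ b i), M] (Coh.structureModule X) =
          ∑ i ∈ t, (b i : ℤ) * FGA.intNum k X 2 ![ClSub.idealMod (C i), M] (Coh.structureModule X) := by
    have h1 : BlowUp.IsEffCartierIdeal (1 : X.IdealSheafData) ∧ ∀ M : X.Modules, PicF.IsInvertible M →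
        FGA.intNum k X 2 ![ClSub.idealMod (1 : X.IdealSheafData), M] (Coh.structureModule X) = 0 := by
      refine ⟨by rw [Scheme.IdealSheafData.one_eq_top]; exact BlowUpX.isEffCartier_top, fun M hM => ?_⟩
      have h := intNum_mul k hdim (A := (⊤ : X.IdealSheafData)) (B := ⊤) BlowUpX.isEffCartier_top BlowUpX.isEffCartier_top hM
      rw [Scheme.IdealSheafData.top_mul] at h
      rw [Scheme.IdealSheafData.one_eq_top]
      omega
    have hpow : ∀ (i : Fin r) (n : ℕ), BlowUp.IsEffCartierIdeal (C i ^ n) ∧ ∀ M : X.Modules, PicF.IsInvertible M →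
        FGA.intNum k X 2 ![ClSub.idealMod (C i ^ n), M] (Coh.structureModule X) =
          (n : ℤ) * FGA.intNum k X 2 ![ClSub.idealMod (C i), M] (Coh.structureModule X) := by
      intro i n
      induction n with
      | zero => exact ⟨by rw [pow_zero]; exact h1.1, fun M hM => by rw [pow_zero, h1.2 M hM]; simp⟩
      | succ n ih =>
        refine ⟨by rw [pow_succ]; exact isEffCartier_mul ih.1 (hC i).1, fun M hM => ?_⟩
        rw [pow_succ, intNum_mul k hdim ih.1 (hC i).1 hM, ih.2 M hM]
        push_cast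
        ring
    intro b t
    induction t using Finset.induction with
    | empty => exact ⟨by simpa using h1.1, fun M hM => by simpa using h1.2 M hM⟩
    | insert i t hi ih =>
      rw [Finset.prod_insert hi]
      refine ⟨isEffCartier_mul (hpow i (b i)).1 ih.1, fun M hM => ?_⟩
      rw [intNum_mul k hdim (hpow i (b i)).1 ih.1 hM, (hpow i (b i)).2 M hM, ih.2 M hM, Finset.sum_insert hi]
  have hDi := Big.isInvertible_ideal hD
  have hsum := (hE a Finset.univ).2 _ hDi
  rw [← ha] at hsum
  have ha0 : (fun i => (a i : ℤ)) ≠ 0 := fun h => hDne (by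
    rw [ha, ← Scheme.IdealSheafData.one_eq_top]
    refine Finset.prod_eq_one fun i _ => ?_
    have : (a i : ℤ) = 0 := congrFun h i
    rw [Int.natCast_eq_zero.1 this, pow_zero])
  have hcross : ∀ i, FGA.intNum k X 2 ![ClSub.idealMod (C i), ClSub.idealMod D] (Coh.structureModule X) =
      ∑ j, (a j : ℤ) * FGA.intNum k X 2 ![ClSub.idealMod (C i), ClSub.idealMod (C j)] (Coh.structureModule X) := fun i => by
    have hi := Big.isInvertible_ideal (hC i).1
    have h := (hE a Finset.univ).2 _ hi
    rw [← ha] at h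
    rw [Big.NegDef.dot_symm k hdim hi hDi, h]
    exact Finset.sum_congr rfl fun j _ => by rw [Big.NegDef.dot_symm k hdim hi (Big.isInvertible_ideal (hC j).1)]
  have hlt := hneg _ ha0
  obtain ⟨i, hi⟩ : ∃ i, (a i : ℤ) * FGA.intNum k X 2 ![ClSub.idealMod (C i), ClSub.idealMod D] (Coh.structureModule X) < 0 := by
    by_contra hcon
    push Not at hcon
    refine absurd hlt (not_lt.2 (Finset.sum_nonneg fun i _ => ?_))
    refine (hcon i).trans_eq ?_
    rw [hcross, Finset.mul_sum]
    exact Finset.sum_congr rfl fun j _ => by ring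
  have hapos : 0 < a i := Nat.pos_of_ne_zero fun h => by rw [h] at hi; simp at hi
  have hle : D ≤ C i := by
    rw [ha, ← Finset.mul_prod_erase Finset.univ _ (Finset.mem_univ i),
      show a i = a i - 1 + 1 by omega, pow_succ, mul_comm (C i ^ _) (C i), mul_assoc, mul_comm (C i)]
    exact le_mul_right
  obtain ⟨D', hD', heq, hlt'⟩ := exists_split k hdim hD (hC i) hle
  rw [mul_comm] at heq
  refine ⟨C i, D', hC i, hD', heq, hCrat i, fun _ => ⟨fun y hy => hDs (Scheme.IdealSheafData.support_antitone hlt'.le hy), ?_⟩⟩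
  have h5 := intNum_split k hdim (hC i).1 hD'
  rw [← heq] at h5
  have h6 : FGA.intNum k X 2 ![ClSub.idealMod (C i), ClSub.idealMod D] (Coh.structureModule X) < 0 :=
    (mul_neg_iff.1 hi).elim (fun h => h.2) fun h => absurd h.1 (by omega)
  have := hC2 i
  omega

include k in
omit [Smooth (X ↘ Spec (CommRingCat.of k))] [IsIntegral X] in
/-- A nonzero divisor has a nonzero global function. -/
theorem h0_pos {D : X.IdealSheafData} (hne : D ≠ ⊤) : 0 < Module.finrank k (Coh.HH X (ClSub.quotMod D) 0) := by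
  letI : D.subscheme.Over (Spec (CommRingCat.of k)) := ⟨D.subschemeι ≫ (X ↘ Spec (CommRingCat.of k))⟩
  haveI : IsProper (D.subscheme ↘ Spec (CommRingCat.of k)) :=
    inferInstanceAs (IsProper (D.subschemeι ≫ (X ↘ Spec (CommRingCat.of k))))
  haveI : IsNoetherian D.subscheme := CurveCohLib.isNoetherian_of_proper (k := k)
  haveI := CurveCohLib.finite_HH (k := k) (QCoh.isCoh_structureModule' (X := D.subscheme)) 0
  obtain ⟨x, hx⟩ := support_nonempty hne
  obtain ⟨z, -⟩ : x ∈ Set.range D.subschemeι := by rwa [D.range_subschemeι]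
  obtain ⟨l⟩ := PnCoh.exists_linearEquiv_push k D.subschemeι rfl (QCoh.isQCoh_structureModule (X := D.subscheme)) 0
  refine lt_of_lt_of_eq ?_ l.finrank_eq
  refine Module.finrank_pos_iff_exists_ne_zero.2
    ⟨(Sheaf.H.equiv₀ (Coh.toAb (Coh.structureModule D.subscheme)) isTerminalTop).symm (1 : Γ(D.subscheme, ⊤)), fun h => ?_⟩
  have h' := ((Sheaf.H.equiv₀ (Coh.toAb (Coh.structureModule D.subscheme)) isTerminalTop).apply_symm_apply
    (show Γ(Coh.structureModule D.subscheme, ⊤) from (1 : Γ(D.subscheme, ⊤)))).symm.trans ((congrArg _ h).trans (map_zero _))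
  haveI : Nonempty (⊤ : D.subscheme.Opens) := ⟨⟨z, trivial⟩⟩
  exact one_ne_zero (α := Γ(D.subscheme, ⊤)) h'

omit [Smooth (X ↘ Spec (CommRingCat.of k))] [IsIntegral X] in
theorem finrank_h0_curve [IsAlgClosed k] {C : X.IdealSheafData} (hC : IsCurve C) :
    Module.finrank k (Coh.HH X (ClSub.quotMod C) 0) = 1 := by
  haveI := hC.2.1
  letI : C.subscheme.Over (Spec (CommRingCat.of k)) := ⟨C.subschemeι ≫ (X ↘ Spec (CommRingCat.of k))⟩
  haveI : IsProper (C.subscheme ↘ Spec (CommRingCat.of k)) :=
    inferInstanceAs (IsProper (C.subschemeι ≫ (X ↘ Spec (CommRingCat.of k))))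
  obtain ⟨l⟩ := PnCoh.exists_linearEquiv_push k C.subschemeι rfl (QCoh.isQCoh_structureModule (X := C.subscheme)) 0
  exact l.finrank_eq.symm.trans (CurveReg.finrank_h0_integral k)

include hdim in
/-- Functions on a numerically connected divisor are determined on any part. -/
theorem finrank_h0_le_of_connected {D : X.IdealSheafData} (hD : BlowUp.IsEffCartierIdeal D)
    (hnc : ∀ D₁ D₂ : X.IdealSheafData, BlowUp.IsEffCartierIdeal D₁ → BlowUp.IsEffCartierIdeal D₂ → D₁ ≠ ⊤ → D₂ ≠ ⊤ →
      D = D₁ * D₂ → 0 < FGA.intNum k X 2 ![ClSub.idealMod D₁, ClSub.idealMod D₂] (Coh.structureModule X))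
    {J E : X.IdealSheafData} (hJ : BlowUp.IsEffCartierIdeal J) (hE : BlowUp.IsEffCartierIdeal E) (hEne : E ≠ ⊤)
    (heq : D = E * J) :
    Module.finrank k (Coh.HH X (ClSub.quotMod D) 0) ≤ Module.finrank k (Coh.HH X (ClSub.quotMod E) 0) := by
  haveI : IsNoetherian X := CurveCohLib.isNoetherian_of_proper (k := k)
  haveI := H23.FinCondSch.wellFoundedGT (X := X)
  revert E hJ
  induction J using WellFoundedGT.induction with
  | ind J ih =>
    intro E hJ hE hEne heq
    by_cases htop : J = ⊤
    · rw [heq, htop, mul_comm, Scheme.IdealSheafData.top_mul]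
    have hEi := Big.isInvertible_ideal hE
    have h0 := hnc E J hE hJ hEne htop heq
    rw [Big.NegDef.dot_symm k hdim hEi (Big.isInvertible_ideal hJ)] at h0
    let φ : X.IdealSheafData → ℤ := fun C =>
      -FGA.intNum k X 2 ![ClSub.idealMod C, ClSub.idealMod E] (Coh.structureModule X)
    obtain ⟨C, hC, hle, hφ⟩ := exists_component_neg k hdim φ (fun A B hA hB => by
      simp only [φ]
      rw [intNum_mul k hdim hA hB hEi]
      ring) hJ (show φ J < 0 by simp only [φ]; omega)
    obtain ⟨J', hJ', hJe, hlt⟩ := exists_split k hdim hJ hC hle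
    have hCE := isEffCartier_mul hC.1 hE
    have hne' : C * E ≠ ⊤ := fun h => ne_top_of_isCurve hC (top_le_iff.1 (h ▸ le_mul_left))
    refine (ih J' hlt hJ' hCE hne' (by rw [heq, hJe, mul_comm J' C, mul_comm C E, mul_assoc])).trans ?_
    obtain ⟨f, g, w, hS, -⟩ := MulSeq.exists_seq C E hC.1 hE
    haveI := hC.2.1
    simp only [φ] at hφ
    rw [Big.NegDef.dot_eq_euler k hdim (Big.isInvertible_ideal hC.1) hEi] at hφ
    haveI := subsingleton_quot_tensor k hC.2.2 hEi (by linarith)
    have h := finrank_seq k hS (AmpleVan.isCoh_tensor (ParShLib.isCoh_quotMod C) (AmpleVan.isCoh_invertible hEi))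
      (ParShLib.isCoh_quotMod _) (ParShLib.isCoh_quotMod _)
    change (Module.finrank k (Coh.HH X (CohB1.tensorMod (ClSub.quotMod C) (ClSub.idealMod E)) 0) : ℤ) +
      Module.finrank k (Coh.HH X (ClSub.quotMod E) 0) - Module.finrank k (Coh.HH X (ClSub.quotMod (C * E)) 0) = _ at h
    rw [Module.finrank_zero_of_subsingleton (M := Coh.HH X (CohB1.tensorMod (ClSub.quotMod C) (ClSub.idealMod E)) 0)] at h
    omega

include hdim in
/-- Ramanujam's lemma. -/
theorem finrank_h0_connected [IsAlgClosed k] {D : X.IdealSheafData} (hD : BlowUp.IsEffCartierIdeal D) (hne : D ≠ ⊤)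
    (hnc : ∀ D₁ D₂ : X.IdealSheafData, BlowUp.IsEffCartierIdeal D₁ → BlowUp.IsEffCartierIdeal D₂ → D₁ ≠ ⊤ → D₂ ≠ ⊤ →
      D = D₁ * D₂ → 0 < FGA.intNum k X 2 ![ClSub.idealMod D₁, ClSub.idealMod D₂] (Coh.structureModule X)) :
    Module.finrank k (Coh.HH X (ClSub.quotMod D) 0) = 1 := by
  obtain ⟨C, D', hC, hD', heq, -⟩ := exists_curve_split k hdim hD hne
  have h := finrank_h0_le_of_connected k hdim hD hnc hD' hC.1 (ne_top_of_isCurve hC) (heq.trans (mul_comm _ _))
  rw [finrank_h0_curve k hC] at h
  have := h0_pos k hne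
  omega

end Groth.Agent.SurfRR.Chain
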