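import Groth.Agent.SurfRR.Artin
import Groth.Agent.H23.RedSub

/-!
# Reduced unions of curves
-/

set_option autoImplicit false
set_option linter.style.haveILetI false
set_option linter.unusedSectionVars false
set_option backward.isDefEq.respectTransparency false
set_option backward.isDefEq.respectTransparency.types false
set_option maxHeartbeats 1000000

universe u

open CategoryTheory CategoryTheory.Limits AlgebraicGeometry TopologicalSpace
open Groth.Agent.H23.PicMul

noncomputable section

namespace Groth.Agent.SurfRR.Chain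

open Groth.Agent ModPairLib

variable (k : Type u) [Field k] {X : Scheme.{u}} [X.Over (Spec (CommRingCat.of k))]
  [IsProper (X ↘ Spec (CommRingCat.of k))] [Smooth (X ↘ Spec (CommRingCat.of k))] [IsIntegral X]
  (hdim : topologicalKrullDim X = 2)

omit [Smooth (X ↘ Spec (CommRingCat.of k))] [IsIntegral X] [IsProper (X ↘ Spec (CommRingCat.of k))]
  [X.Over (Spec (CommRingCat.of k))] [Field k] in
/-- A prime divisor and a divisor not containing it intersect in their product. -/
theorem inf_eq_mul {C P : X.IdealSheafData} (hC : IsCurve C) (hP : BlowUp.IsEffCartierIdeal P) (h : ¬ P ≤ C) :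
    C ⊓ P = C * P := by
  haveI := hC.2.1
  refine le_antisymm ?_ (le_inf le_mul_left le_mul_right)
  let Q := colon (C ⊓ P) P (isLocPrincipal_of_isEffCartier hP)
  have hmul : Q * P = C ⊓ P := colon_mul hP inf_le_right
  have hη : C.subschemeι (genericPoint C.subscheme) ∉ P.support := fun hη => h (by
    rw [← CartierExt.radical_eq_of_isReduced C, ← Scheme.IdealSheafData.vanishingIdeal_support,
      ← Scheme.IdealSheafData.le_support_iff_le_vanishingIdeal]
    intro y hy
    replace hy : y ∈ (C.support : Set X) := hy
    rw [← C.range_subschemeι] at hy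
    obtain ⟨z, rfl⟩ := hy
    exact ((genericPoint_specializes z).map C.subschemeι.continuous).mem_closed P.support.isClosed hη)
  have hQC : Q ≤ C := fun U a ha => by
    rw [← C.ker_subschemeι_app U, RingHom.mem_ker]
    by_contra hne
    have hne' : Nonempty (C.subschemeι ⁻¹ᵁ U.1 : C.subscheme.Opens) := by
      by_contra he
      have he' : (C.subschemeι ⁻¹ᵁ U.1) = ⊥ := eq_bot_iff.2 fun z hz => (he ⟨⟨z, hz⟩⟩).elim
      haveI : Subsingleton Γ(C.subscheme, C.subschemeι ⁻¹ᵁ U.1) := by rw [he']; infer_instance
      exact hne (Subsingleton.elim _ _)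
    haveI := hne'
    obtain ⟨⟨z, hz⟩⟩ := hne'
    have hηU : C.subschemeι (genericPoint C.subscheme) ∈ U.1 :=
      ((genericPoint_specializes z).map C.subschemeι.continuous).mem_open U.1.isOpen hz
    have hle : P.ideal U ≤ C.ideal U := fun p hp => by
      have hmem : a * p ∈ (C ⊓ P).ideal U := by
        rw [← hmul, Scheme.IdealSheafData.ideal_mul, Pi.mul_apply]
        exact Ideal.mul_mem_mul ha hp
      rw [Scheme.IdealSheafData.ideal_inf, Pi.inf_apply] at hmem
      have h1 := hmem.1
      rw [SetLike.mem_coe, ← C.ker_subschemeι_app U, RingHom.mem_ker, map_mul] at h1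
      rw [← C.ker_subschemeι_app U, RingHom.mem_ker]
      exact (mul_eq_zero.1 h1).resolve_left hne
    apply hη
    rw [Scheme.IdealSheafData.mem_support_iff_of_mem (U := U) hηU, Scheme.mem_zeroLocus_iff]
    intro p hp
    have hC' : C.subschemeι (genericPoint C.subscheme) ∈ C.support := by
      rw [← SetLike.mem_coe, ← C.range_subschemeι]
      exact ⟨_, rfl⟩
    rw [Scheme.IdealSheafData.mem_support_iff_of_mem (U := U) hηU, Scheme.mem_zeroLocus_iff] at hC'
    exact hC' p (hle hp)
  intro U
  rw [← hmul, Scheme.IdealSheafData.ideal_mul, Scheme.IdealSheafData.ideal_mul, Pi.mul_apply, Pi.mul_apply]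
  exact Ideal.mul_mono_left (hQC U)

variable {r : ℕ} {C : Fin r → X.IdealSheafData} (hC : ∀ i, IsCurve (C i)) (hinj : Function.Injective C)

include k hdim hC hinj in
/-- The union of distinct curves is their sum, with its Euler characteristic. -/
theorem finset_inf_eq [IsAlgClosed k] (t : Finset (Fin r)) :
    t.inf C = ∏ i ∈ t, C i ^ (1 : ℕ) ∧
      Curv2.euler k X (ClSub.quotMod (t.inf C)) = ∑ i ∈ t, Curv2.euler k X (ClSub.quotMod (C i)) -
        ∑ i ∈ t, ∑ j ∈ t, (if i < j then FGA.intNum k X 2 ![ClSub.idealMod (C i), ClSub.idealMod (C j)] (Coh.structureModule X) else 0) := by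
  classical
  haveI : IsNoetherian X := CurveCohLib.isNoetherian_of_proper (k := k)
  induction t using Finset.induction with
  | empty =>
    refine ⟨by rw [Finset.inf_empty, Finset.prod_empty, Scheme.IdealSheafData.one_eq_top], ?_⟩
    simp only [Finset.inf_empty, Finset.sum_empty, sub_zero]
    exact CurveSlope.euler_eq_zero_of_isZero k ((AssPtX.isZero_iff (ParShLib.isCoh_quotMod _).1).2 fun x hx =>
      (by simpa using Big.support_quotMod_subset _ (AssPtX.mem_support_of_isWeakAssPoint hx) : False))
  | insert a t ha ih =>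
    obtain ⟨ih1, ih2⟩ := ih
    let P := t.inf C
    have hP : BlowUp.IsEffCartierIdeal P := by
      show BlowUp.IsEffCartierIdeal (t.inf C)
      rw [ih1]
      exact (intNum_prod k hdim hC (fun _ => 1) t).1
    have hnle : ¬ P ≤ C a := fun hle => by
      by_cases hne : P = ⊤
      · exact ne_top_of_isCurve (hC a) (top_le_iff.1 (hne ▸ hle))
      obtain ⟨i, hi⟩ : ∃ i ∈ t, C i ≤ C a := by
        by_contra hno
        push Not at hno

        have hsub : ((C a).support : Set X) ⊆ ⋃ i : t, ((C i).support : Set X) := by
          intro y hy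
          have hy' := Scheme.IdealSheafData.support_antitone hle hy
          clear hne
          have key : ∀ s : Finset (Fin r), y ∈ (s.inf C).support → ∃ i ∈ s, y ∈ (C i).support := by
            intro s
            induction s using Finset.induction with
            | empty =>
              intro hys
              rw [Finset.inf_empty, Scheme.IdealSheafData.support_top] at hys
              exact hys.elim
            | insert b s hb ihs =>
              intro hys
              rw [Finset.inf_insert, ← Scheme.IdealSheafData.support_radical, Scheme.IdealSheafData.radical_inf,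
                ← Scheme.IdealSheafData.radical_mul, Scheme.IdealSheafData.support_radical, Scheme.IdealSheafData.support_mul] at hys
              rcases hys with hys | hys
              · exact ⟨b, Finset.mem_insert_self b s, hys⟩
              · obtain ⟨i, hi, hiy⟩ := ihs hys
                exact ⟨i, Finset.mem_insert_of_mem hi, hiy⟩
          obtain ⟨i, hi, hiy⟩ := key t hy'
          exact Set.mem_iUnion.2 ⟨⟨i, hi⟩, hiy⟩
        haveI := (hC a).2.1
        let η := (C a).subschemeι (genericPoint (C a).subscheme)
        have hηa : η ∈ ((C a).support : Set X) := by rw [← (C a).range_subschemeι]; exact ⟨_, rfl⟩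
        obtain ⟨⟨i, hi⟩, hiη⟩ := Set.mem_iUnion.1 (hsub hηa)
        refine hno i hi ?_
        rw [← CartierExt.radical_eq_of_isReduced (C a), ← Scheme.IdealSheafData.vanishingIdeal_support,
          ← Scheme.IdealSheafData.le_support_iff_le_vanishingIdeal]
        intro y hy
        replace hy : y ∈ ((C a).support : Set X) := hy
        rw [← (C a).range_subschemeι] at hy
        obtain ⟨z, rfl⟩ := hy
        exact ((genericPoint_specializes z).map (C a).subschemeι.continuous).mem_closed (C i).support.isClosed hiη
      exact ha (hinj (eq_of_curve_le k hdim (hC i) (hC a) hi.2) ▸ hi.1)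
    have heq : (insert a t).inf C = C a * P := by
      rw [Finset.inf_insert]; exact inf_eq_mul (hC a) hP hnle
    refine ⟨?_, ?_⟩
    · rw [heq, Finset.prod_insert ha, pow_one, ← ih1]
    rw [heq]
    obtain ⟨f, g, w, hS, -⟩ := MulSeq.exists_seq (C a) P (hC a).1 hP
    have hPi := Big.isInvertible_ideal hP
    have hai := Big.isInvertible_ideal (hC a).1
    have hadd := CurveCohLib.euler_additive (k := k) hS
      (AmpleVan.isCoh_tensor (ParShLib.isCoh_quotMod (C a)) (AmpleVan.isCoh_invertible hPi))
      (ParShLib.isCoh_quotMod (C a * P)) (ParShLib.isCoh_quotMod P)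
    change Curv2.euler k X (ClSub.quotMod (C a * P)) =
      Curv2.euler k X (CohB1.tensorMod (ClSub.quotMod (C a)) (ClSub.idealMod P)) + Curv2.euler k X (ClSub.quotMod P) at hadd
    have hd := Big.NegDef.dot_eq_euler k hdim hai hPi
    have hsum : FGA.intNum k X 2 ![ClSub.idealMod (C a), ClSub.idealMod P] (Coh.structureModule X) =
        ∑ i ∈ t, FGA.intNum k X 2 ![ClSub.idealMod (C i), ClSub.idealMod (C a)] (Coh.structureModule X) := by
      rw [Big.NegDef.dot_symm k hdim hai hPi, show P = t.inf C from rfl, ih1,
        (intNum_prod k hdim hC (fun _ => 1) t).2 _ hai]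
      simp
    rw [Finset.sum_insert ha, Finset.sum_insert ha, Finset.sum_insert ha, if_neg (lt_irrefl a), zero_add]
    simp only [Finset.sum_insert ha]
    rw [Finset.sum_add_distrib, ← add_assoc, ← Finset.sum_add_distrib]
    have e : ∀ i ∈ t, (if a < i then FGA.intNum k X 2 ![ClSub.idealMod (C a), ClSub.idealMod (C i)] (Coh.structureModule X) else 0) +
        (if i < a then FGA.intNum k X 2 ![ClSub.idealMod (C i), ClSub.idealMod (C a)] (Coh.structureModule X) else 0) =
        FGA.intNum k X 2 ![ClSub.idealMod (C i), ClSub.idealMod (C a)] (Coh.structureModule X) := by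
      intro i hi
      have hne : i ≠ a := fun h => ha (h ▸ hi)
      rcases lt_or_gt_of_ne hne with h | h
      · rw [if_neg (not_lt.2 h.le), if_pos h, zero_add]
      · rw [if_pos h, if_neg (not_lt.2 h.le), add_zero, Big.NegDef.dot_symm k hdim hai (Big.isInvertible_ideal (hC i).1)]
    rw [Finset.sum_congr rfl e]
    have hP2 : Curv2.euler k X (ClSub.quotMod P) = Curv2.euler k X (ClSub.quotMod (t.inf C)) := rfl
    linarith

include k hdim hC hinj in
/-- The arithmetic genus of a connected union of curves. -/
theorem euler_union [IsAlgClosed k] (hconn : _root_.IsConnected ((⨅ i, C i).support : Set X)) :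
    Curv2.euler k X (ClSub.quotMod (⨅ i, C i)) ≤ 1 ∧
      (Curv2.euler k X (ClSub.quotMod (⨅ i, C i)) = 1 →
        (∀ i, Curv2.euler k X (ClSub.quotMod (C i)) = 1) ∧
          (∑ i : Fin r, ∑ j : Fin r,
              if i < j then FGA.intNum k X 2 ![ClSub.idealMod (C i), ClSub.idealMod (C j)] (Coh.structureModule X) else 0) =
            (r : ℤ) - 1) := by
  classical
  haveI : IsNoetherian X := CurveCohLib.isNoetherian_of_proper (k := k)
  obtain ⟨heq, hχ⟩ := finset_inf_eq k hdim hC hinj Finset.univ
  rw [Finset.inf_univ_eq_iInf] at heq hχ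
  let I := ⨅ i, C i
  have hI : BlowUp.IsEffCartierIdeal I := by
    show BlowUp.IsEffCartierIdeal (⨅ i, C i)
    rw [heq]
    exact (intNum_prod k hdim hC (fun _ => 1) Finset.univ).1
  have hrad : I.radical = I := by
    refine le_antisymm (le_iInf fun i => ?_) (Scheme.IdealSheafData.le_radical _)
    haveI := (hC i).2.1
    rw [← CartierExt.radical_eq_of_isReduced (C i)]
    intro U
    rw [Scheme.IdealSheafData.radical_ideal, Scheme.IdealSheafData.radical_ideal]
    exact Ideal.radical_mono ((iInf_le C i : (⨅ i, C i) ≤ C i) U)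
  rw [← Scheme.IdealSheafData.vanishingIdeal_support] at hrad
  haveI : IsReduced I.subscheme := by
    rw [← hrad]
    exact H23.RedSub.isReduced_vanishingIdeal _
  letI : I.subscheme.Over (Spec (CommRingCat.of k)) := ⟨I.subschemeι ≫ (X ↘ Spec (CommRingCat.of k))⟩
  haveI : IsProper (I.subscheme ↘ Spec (CommRingCat.of k)) :=
    inferInstanceAs (IsProper (I.subschemeι ≫ (X ↘ Spec (CommRingCat.of k))))
  haveI : ConnectedSpace I.subscheme := by
    haveI : ConnectedSpace ↥(Set.range I.subschemeι) := by
      rw [I.range_subschemeι]; exact Subtype.connectedSpace hconn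
    exact I.subschemeι.isEmbedding.toHomeomorph.symm.surjective.connectedSpace
      I.subschemeι.isEmbedding.toHomeomorph.symm.continuous
  haveI : IsNoetherian I.subscheme := CurveCohLib.isNoetherian_of_proper (k := k)
  obtain ⟨l0⟩ := PnCoh.exists_linearEquiv_push k I.subschemeι rfl (QCoh.isQCoh_structureModule (X := I.subscheme)) 0
  obtain ⟨l1⟩ := PnCoh.exists_linearEquiv_push k I.subschemeι rfl (QCoh.isQCoh_structureModule (X := I.subscheme)) 1
  have heuler : Curv2.euler k X (ClSub.quotMod I) =
      1 - (Module.finrank k (Coh.HH X (ClSub.quotMod I) 1) : ℤ) := by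
    show Curv2.euler k X ((Coh.push I.subschemeι).obj (Coh.structureModule I.subscheme)) =
      1 - (Module.finrank k (Coh.HH X ((Coh.push I.subschemeι).obj (Coh.structureModule I.subscheme)) 1) : ℤ)
    rw [AmpleDev.euler_push k I.subschemeι rfl QCoh.isQCoh_structureModule,
      CurveReg.euler_eq k ((dim_subscheme_le k hdim hI).trans Nat.cast_one.le) QCoh.isCoh_structureModule',
      finrank_h0_reduced, l1.finrank_eq]
    rfl
  refine ⟨show Curv2.euler k X (ClSub.quotMod I) ≤ 1 by omega, fun h1 => ?_⟩
  haveI := CurveCohLib.finite_HH (k := k) (ParShLib.isCoh_quotMod I) 1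
  have h1' : Curv2.euler k X (ClSub.quotMod I) = 1 := h1
  haveI hH1 : Subsingleton (Coh.HH X (ClSub.quotMod I) 1) := (Module.finrank_zero_iff (R := k)).1 (by omega)
  have hall : ∀ i, Curv2.euler k X (ClSub.quotMod (C i)) = 1 := fun i => by
    let R : X.IdealSheafData := ∏ j ∈ Finset.univ.erase i, C j ^ (1 : ℕ)
    have hR := (intNum_prod k hdim hC (fun _ => 1) (Finset.univ.erase i)).1
    have hRI : I = R * C i := by
      show (⨅ j, C j) = R * C i
      rw [heq, ← Finset.prod_erase_mul Finset.univ _ (Finset.mem_univ i), pow_one]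
    obtain ⟨f, g, w, hS, -⟩ := MulSeq.exists_seq R (C i) hR (hC i).1
    rw [hRI] at hH1
    exact (curve_h1_iff k (hC i)).2.1
      (PnCoh.Finite.subsingleton_HH_X₃ hS 1 hH1 (euler_quot_twist k hdim hR (Big.isInvertible_ideal (hC i).1)).2)
  refine ⟨hall, ?_⟩
  rw [h1] at hχ
  simp only [hall, Finset.sum_const, Finset.card_univ, Fintype.card_fin, Int.nsmul_eq_mul, mul_one] at hχ
  linarith

end Groth.Agent.SurfRR.Chain
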