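import Groth.Agent.SurfRR.Chain
import Groth.Agent.SurfRR.FiniteInter
import Groth.Agent.H23.InvStalk
import Groth.Agent.ZClosLib.Basic

/-!
# Sections of a nonpositive module on a numerically connected divisor
-/

set_option autoImplicit false
set_option linter.style.haveILetI false
set_option linter.unusedSectionVars false
set_option backward.isDefEq.respectTransparency false
set_option backward.isDefEq.respectTransparency.types false
set_option maxHeartbeats 1000000

universe u

open CategoryTheory CategoryTheory.Limits AlgebraicGeometry TopologicalSpace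
open Groth.Agent.H23.PicMul
open scoped TensorProduct

noncomputable section

namespace Groth.Agent.SurfRR.Chain

open Groth.Agent ModPairLib

variable {X : Scheme.{u}}

/-- The restriction between structure sheaves of nested closed subschemes. -/
def resQ {A B : X.IdealSheafData} (h : A ≤ B) : ClSub.quotMod A ⟶ ClSub.quotMod B :=
  haveI := (Big.shortExact_ideal A).epi_g
  (Big.shortExact_ideal A).exact.desc (ClSub.toSubscheme B)
    (show ClSub.idealModι A ≫ ClSub.toSubscheme B = 0 by
      obtain ⟨j, hj⟩ := Big.exists_idealIncl h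
      rw [← hj, Category.assoc, MulSeq.ι_π, comp_zero])

theorem π_resQ {A B : X.IdealSheafData} (h : A ≤ B) : ClSub.toSubscheme A ≫ resQ h = ClSub.toSubscheme B :=
  haveI := (Big.shortExact_ideal A).epi_g
  (Big.shortExact_ideal A).exact.g_desc _ _

theorem resQ_comp {A B C : X.IdealSheafData} (h : A ≤ B) (h' : B ≤ C) : resQ h ≫ resQ h' = resQ (h.trans h') := by
  haveI := CurvePoint.epi_toSubscheme A
  rw [← cancel_epi (ClSub.toSubscheme A), reassoc_of% π_resQ h, π_resQ, π_resQ]

theorem resQ_refl {A : X.IdealSheafData} (h : A ≤ A) : resQ h = 𝟙 _ := by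
  haveI := CurvePoint.epi_toSubscheme A
  rw [← cancel_epi (ClSub.toSubscheme A), π_resQ, Category.comp_id]

instance epi_resQ {A B : X.IdealSheafData} (h : A ≤ B) : Epi (resQ h) :=
  haveI := CurvePoint.epi_toSubscheme B
  epi_of_epi_fac (π_resQ h)

/-- The twisted restriction. -/
def twRes (L : X.Modules) {A B : X.IdealSheafData} (h : A ≤ B) :
    CohB1.tensorMod (ClSub.quotMod A) L ⟶ CohB1.tensorMod (ClSub.quotMod B) L :=
  (AmpleVan.tw L).map (X := ClSub.quotMod A) (Y := ClSub.quotMod B) (resQ h)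

theorem twRes_comp (L : X.Modules) {A B C : X.IdealSheafData} (h : A ≤ B) (h' : B ≤ C) :
    twRes L h ≫ twRes L h' = twRes L (h.trans h') :=
  ((AmpleVan.tw L).map_comp (X := ClSub.quotMod A) (Y := ClSub.quotMod B) (Z := ClSub.quotMod C) (resQ h) (resQ h')).symm.trans
    (congrArg (fun e => (AmpleVan.tw L).map (X := ClSub.quotMod A) (Y := ClSub.quotMod C) e) (resQ_comp h h'))

theorem twRes_refl (L : X.Modules) {A : X.IdealSheafData} (h : A ≤ A) :
    twRes L h = 𝟙 (CohB1.tensorMod (ClSub.quotMod A) L) :=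
  (congrArg (fun e => (AmpleVan.tw L).map (X := ClSub.quotMod A) (Y := ClSub.quotMod A) e) (resQ_refl h)).trans
    ((AmpleVan.tw L).map_id (ClSub.quotMod A))

instance epi_twRes (L : X.Modules) {A B : X.IdealSheafData} (h : A ≤ B) : Epi (twRes L h) :=
  haveI : PreservesFiniteColimits (AmpleVan.tw L) := PreservesColimitsOfSize.preservesFiniteColimits _
  inferInstanceAs (Epi ((AmpleVan.tw L).map (X := ClSub.quotMod A) (Y := ClSub.quotMod B) (resQ h)))

/-- Twisting by an invertible module does not change the stalks. -/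
theorem nonempty_stalk_tw (Q : X.Modules) {L : X.Modules} (hL : PicF.IsInvertible L) (x : X) :
    Nonempty (ParShLib.stk (CohB1.tensorMod Q L) x ≃ₗ[X.presheaf.stalk x] ParShLib.stk Q x) := by
  obtain ⟨e⟩ := H23.InvStalk.exists_stalk_equiv hL x
  exact ⟨(KFlatLib.stalkTensorIso x Q L).toLinearEquiv.symm.trans
    ((TensorProduct.congr (LinearEquiv.refl _ _) e).trans (TensorProduct.rid _ _))⟩

/-- A section of a cyclic module generating a nonzero quotient generates the module. -/
theorem surjective_of_cyclic {R : Type u} [CommRing R] [IsLocalRing R] {M N : Type u} [AddCommGroup M] [Module R M]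
    [AddCommGroup N] [Module R N] [Nontrivial N] {m₀ : M} (hm : ∀ m, ∃ r : R, m = r • m₀) (r : M →ₗ[R] N)
    (hr : Function.Surjective r) {s : M} (hs : ∀ n, ∃ a : R, n = a • r s) : ∀ m, ∃ a : R, m = a • s := by
  obtain ⟨a, ha⟩ := hm s
  have hu : IsUnit a := by
    by_contra h
    obtain ⟨b, hb⟩ := hs (r m₀)
    have h2 : (1 - b * a) • r m₀ = 0 := by
      rw [sub_smul, one_smul, mul_smul, ← map_smul r a m₀, ← ha, ← hb, sub_self]
    have hu2 : IsUnit (1 - b * a) := by
      refine IsLocalRing.isUnit_one_sub_self_of_mem_nonunits _ fun h3 => h (isUnit_of_mul_isUnit_right h3)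
    obtain ⟨n, hn⟩ := exists_ne (0 : N)
    obtain ⟨m, rfl⟩ := hr n
    obtain ⟨c, rfl⟩ := hm m
    rw [map_smul, (hu2.smul_eq_zero).1 h2, smul_zero] at hn
    exact hn rfl
  obtain ⟨w, rfl⟩ := hu
  intro m
  obtain ⟨c, rfl⟩ := hm m
  exact ⟨c * (↑w⁻¹ : R), by rw [ha, smul_smul, mul_assoc, Units.inv_mul, mul_one]⟩

theorem exists_gen_stalk (I : X.IdealSheafData) {L : X.Modules} (hL : PicF.IsInvertible L) (x : X) :
    ∃ m₀ : ParShLib.stk (CohB1.tensorMod (ClSub.quotMod I) L) x, ∀ m, ∃ r : X.presheaf.stalk x, m = r • m₀ := by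
  obtain ⟨e⟩ := nonempty_stalk_tw (ClSub.quotMod I) hL x
  obtain ⟨q₀, hq⟩ := ParShLib.exists_germ_smul I x
  refine ⟨e.symm q₀, fun m => ?_⟩
  obtain ⟨r, hr⟩ := hq (e m)
  exact ⟨r, by rw [← map_smul, ← hr, e.symm_apply_apply]⟩

theorem smul_eq_zero_of_mem (I : X.IdealSheafData) {L : X.Modules} (hL : PicF.IsInvertible L) {x : X}
    {a : X.presheaf.stalk x} (ha : a ∈ Div21Lib.stI I x)
    (m : ParShLib.stk (CohB1.tensorMod (ClSub.quotMod I) L) x) : a • m = 0 := by
  obtain ⟨e⟩ := nonempty_stalk_tw (ClSub.quotMod I) hL x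
  obtain ⟨r, hr⟩ := FiniteInter.toStalk_surjective I x (e m)
  refine e.injective ?_
  rw [map_smul, ← hr, map_zero, ← map_smul]
  have h : a * r ∈ LinearMap.ker (FiniteInter.toStalk I x) := by
    rw [FiniteInter.ker_toStalk]
    exact Ideal.mul_mem_right r _ ha
  exact h

/-- A twisted quotient receiving a surjection from `O` is the quotient. -/
theorem nonempty_iso_of_surjective (I : X.IdealSheafData) {L : X.Modules} (hL : PicF.IsInvertible L)
    (s : Coh.structureModule X ⟶ CohB1.tensorMod (ClSub.quotMod I) L)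
    (hs : ∀ x, Function.Surjective ((DerSch.stalkFunctor X x).map s)) :
    Nonempty (CohB1.tensorMod (ClSub.quotMod I) L ≅ ClSub.quotMod I) := by
  let M := CohB1.tensorMod (ClSub.quotMod I) L
  haveI := (Big.shortExact_ideal I).epi_g
  have h0 : ClSub.idealModι I ≫ s = 0 := by
    refine Scheme.Modules.hom_ext _ _ fun U => ?_
    ext t
    refine TopCat.Presheaf.section_ext (⟨M.presheaf, M.isSheaf⟩ : TopCat.Sheaf AddCommGrpCat.{u} X) U _ _ fun x hx => ?_
    obtain ⟨V, hV, hxV, hVU⟩ := exists_isAffineOpen_mem_and_subset (x := x) hx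
    let a := OmegaSh.idealSect I U t
    let one : Γ(Coh.structureModule X, U) := (1 : Γ(X, U))
    have h1 : (s.app U (show Γ(Coh.structureModule X, U) from a) : Γ(M, U)) = a • s.app U one :=
      (congrArg (s.app U) (show (show Γ(Coh.structureModule X, U) from a) = a • one from (mul_one a).symm)).trans
        (Scheme.Modules.Hom.app_smul s a one)
    have ha : X.presheaf.germ U x hx a ∈ Div21Lib.stI I x := by
      have hm := OmegaLib.idealSect_mem I ⟨V, hV⟩ ((ClSub.idealMod I).presheaf.map (homOfLE (show V ≤ U from hVU)).op t)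
      rw [OmegaLib.idealSect_map] at hm
      have := Div21Lib.germ_mem_stI I ⟨V, hV⟩ hm hxV
      rwa [X.presheaf.germ_res_apply] at this
    show M.presheaf.germ U x hx (s.app U (show Γ(Coh.structureModule X, U) from a)) = M.presheaf.germ U x hx 0
    rw [h1, QCoh.germ_smul' M hx, map_zero]
    exact smul_eq_zero_of_mem I hL ha _
  let φ : ClSub.quotMod I ⟶ M := (Big.shortExact_ideal I).exact.desc s h0
  have hφ : ClSub.toSubscheme I ≫ φ = s := (Big.shortExact_ideal I).exact.g_desc _ _
  suffices h : IsIso φ by exact ⟨(@asIso _ _ _ _ φ h).symm⟩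
  refine ZClosLib.isIso_of_stalkMap_bijective φ fun x => ?_
  let f : ParShLib.stk (ClSub.quotMod I) x →ₗ[X.presheaf.stalk x] ParShLib.stk M x := ParShLib.stkMap φ x
  have hf : Function.Surjective f := fun m => by
    obtain ⟨a, ha⟩ := hs x m
    refine ⟨(DerSch.stalkFunctor X x).map (ClSub.toSubscheme I) a, ?_⟩
    rw [← hφ, Functor.map_comp] at ha
    exact ha
  obtain ⟨e⟩ := nonempty_stalk_tw (ClSub.quotMod I) hL x
  haveI : Module.Finite (X.presheaf.stalk x) (ParShLib.stk (ClSub.quotMod I) x) :=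
    Module.Finite.of_surjective (FiniteInter.toStalk I x) (FiniteInter.toStalk_surjective I x)
  have hb : Function.Injective (e.toLinearMap ∘ₗ f) :=
    OrzechProperty.injective_of_surjective_endomorphism _ (e.surjective.comp hf)
  exact ⟨Function.Injective.of_comp (f := e) hb, hf⟩

/-- The twisted sequence of a sum of two effective divisors. -/
theorem exists_seq_twist (C E : X.IdealSheafData) (hC : BlowUp.IsEffCartierIdeal C) (hE : BlowUp.IsEffCartierIdeal E)
    {L : X.Modules} (hL : PicF.IsInvertible L) :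
    ∃ (f : CohB1.tensorMod (CohB1.tensorMod (ClSub.quotMod C) (ClSub.idealMod E)) L ⟶
        CohB1.tensorMod (ClSub.quotMod (C * E)) L) (w : f ≫ twRes L (le_mul_right : C * E ≤ E) = 0),
      (ShortComplex.mk f (twRes L (le_mul_right : C * E ≤ E)) w).ShortExact := by
  obtain ⟨f, g, w, hS, hg⟩ := MulSeq.exists_seq C E hC hE
  obtain rfl : g = resQ (le_mul_right : C * E ≤ E) := by
    haveI := CurvePoint.epi_toSubscheme (C * E)
    rw [← cancel_epi (ClSub.toSubscheme (C * E)), hg, π_resQ]
  haveI : (AmpleVan.tw L).IsEquivalence := AmpleVan.isEquivalence_tw hL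
  exact ⟨_, _, hS.map_of_exact (AmpleVan.tw L)⟩

variable (k : Type u) [Field k] [X.Over (Spec (CommRingCat.of k))] [IsProper (X ↘ Spec (CommRingCat.of k))]

/-- Maps from `O` into a module without sections vanish. -/
theorem hom_eq_zero {N : X.Modules} (h : Subsingleton (Coh.HH X N 0)) (s : Coh.structureModule X ⟶ N) : s = 0 := by
  haveI : Subsingleton (Γ(N, ⊤)) := (Sheaf.H.equiv₀ (Coh.toAb N) isTerminalTop).symm.toEquiv.subsingleton
  exact CurveRR.hom_ext_one (Subsingleton.elim _ _)

/-- Sections of a nonpositive module on an integral curve. -/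
theorem curve_section [IsAlgClosed k] {C : X.IdealSheafData} (hC : IsCurve C) {L : X.Modules}
    (hL : PicF.IsInvertible L)
    (hdeg : Curv2.euler k X (CohB1.tensorMod (ClSub.quotMod C) L) - Curv2.euler k X (ClSub.quotMod C) ≤ 0) :
    Module.finrank k (Coh.HH X (CohB1.tensorMod (ClSub.quotMod C) L) 0) ≤ 1 ∧
      ∀ s : Coh.structureModule X ⟶ CohB1.tensorMod (ClSub.quotMod C) L, s ≠ 0 → Epi s := by
  haveI := hC.2.1
  letI : C.subscheme.Over (Spec (CommRingCat.of k)) := ⟨C.subschemeι ≫ (X ↘ Spec (CommRingCat.of k))⟩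
  haveI : IsProper (C.subscheme ↘ Spec (CommRingCat.of k)) :=
    inferInstanceAs (IsProper (C.subschemeι ≫ (X ↘ Spec (CommRingCat.of k))))
  haveI : IsNoetherian C.subscheme := CurveCohLib.isNoetherian_of_proper (k := k)
  have hd : topologicalKrullDim C.subscheme = 1 :=
    (AmpleDev.dim_eq_one_of_closedImmersion C.subschemeι C.range_subschemeι).trans hC.2.2
  let M' := (Scheme.Modules.pullback C.subschemeι).obj L
  have hM' : PicF.IsInvertible M' := PicClLib.isInvertible_pullback _ hL
  obtain ⟨e⟩ := AmpleDev.push_tensor_iso C.subschemeι hL (Coh.structureModule C.subscheme)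
  obtain ⟨φ⟩ : Nonempty (CohB1.tensorMod (Coh.structureModule C.subscheme) M' ≅ M') := cl_eq_iff.1 (by
    rw [cl_tensor, ← H23.PicMul.one_def, one_mul])
  let E : CohB1.tensorMod (ClSub.quotMod C) L ≅ (Coh.push C.subschemeι).obj M' :=
    e ≪≫ (Coh.push C.subschemeι).mapIso φ
  rw [AmpleDev.euler_sub_eq_deg k C hL] at hdeg
  change Curv2.deg k C.subscheme M' 1 ≤ 0 at hdeg
  have h2 : Curv2.deg k C.subscheme M' 1 =
      Curv2.euler k C.subscheme M' - Curv2.euler k C.subscheme (Coh.structureModule C.subscheme) := by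
    simp [Curv2.deg]
  have key : ∀ t : Coh.structureModule C.subscheme ⟶ M', t ≠ 0 → IsIso t := fun t ht => by
    obtain ⟨hle, hiso⟩ := CurveDeg.euler_le_and_isIso k hd.le CurveDeg.isInvertible_structureModule hM' t ht
    exact hiso (le_antisymm hle (by omega))
  refine ⟨?_, fun s hs => ?_⟩
  · obtain ⟨l⟩ := PnCoh.exists_linearEquiv_push k C.subschemeι rfl (ProjUPX.isQCoh_of_isInvertible hM') 0
    obtain ⟨l'⟩ := ExtShX.nonempty_HH_equiv_of_iso (A := k) E 0
    rw [l'.finrank_eq, ← l.finrank_eq]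
    by_contra h
    obtain ⟨t, ht⟩ := CurveRR.exists_hom_ne_zero k (P := M') (by omega)
    haveI := key t ht
    obtain ⟨l''⟩ := ExtShX.nonempty_HH_equiv_of_iso (A := k) (asIso t) 0
    rw [← l''.finrank_eq, CurveReg.finrank_h0_integral] at h
    omega
  · let t : Γ(M', ⊤) := (s ≫ E.hom).app ⊤ (1 : Γ(X, ⊤))
    let s' : Coh.structureModule C.subscheme ⟶ M' := QCoh.homOfTop t
    have hfac : s ≫ E.hom = ClSub.toSubscheme C ≫ (Coh.push C.subschemeι).map s' := by
      refine CurveRR.hom_ext_one ?_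
      show t = s'.app (C.subschemeι ⁻¹ᵁ ⊤) (C.subschemeι.app ⊤ (1 : Γ(X, ⊤)))
      rw [map_one, QCoh.homOfTop_app, one_smul]
      exact (ConcreteCategory.congr_hom (M'.presheaf.map_id _) t).symm
    have hs' : s' ≠ 0 := fun h => hs (by
      rw [← cancel_mono E.hom, zero_comp, hfac, h, Functor.map_zero, comp_zero])
    haveI := key s' hs'
    haveI := CurvePoint.epi_toSubscheme C
    have : s = ClSub.toSubscheme C ≫ (Coh.push C.subschemeι).map s' ≫ E.inv := by
      rw [← reassoc_of% hfac, Iso.hom_inv_id, Category.comp_id]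
    rw [this]
    infer_instance

variable [Smooth (X ↘ Spec (CommRingCat.of k))] [IsIntegral X] (hdim : topologicalKrullDim X = 2)

include k hdim in
/-- A curve in a divisor through a given point of it. -/
theorem exists_curve_through {D : X.IdealSheafData} (hD : BlowUp.IsEffCartierIdeal D) {x : X} (hx : x ∈ D.support) :
    ∃ C : X.IdealSheafData, IsCurve C ∧ D ≤ C ∧ x ∈ C.support := by
  haveI : IsNoetherian X := CurveCohLib.isNoetherian_of_proper (k := k)
  obtain ⟨η, hη, hηx, hd⟩ := Big.AffineBd.exists_curve_generization k hdim hD hx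
  have hs : ((Scheme.IdealSheafData.vanishingIdeal (Closeds.closure {η})).support : Set X) = closure {η} := by
    rw [← Scheme.IdealSheafData.range_subschemeι, H23.RedSub.range_vanishingIdeal]
    rfl
  refine ⟨_, ⟨Big.isEffCartier_closure k hdim hd, QCoh.isIntegral_closure_point η, by rw [hs]; exact hd⟩,
    Scheme.IdealSheafData.le_support_iff_le_vanishingIdeal.1
      (D.support.isClosed.closure_subset_iff.2 (Set.singleton_subset_iff.2 hη)), ?_⟩
  rw [← SetLike.mem_coe, hs]
  exact hηx.mem_closure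

include hdim in
/-- Restriction to a part of a numerically connected divisor is injective on sections. -/
theorem restrict_injective {Z : X.IdealSheafData}
    (hnc : ∀ Z₁ Z₂ : X.IdealSheafData, BlowUp.IsEffCartierIdeal Z₁ → BlowUp.IsEffCartierIdeal Z₂ → Z₁ ≠ ⊤ → Z₂ ≠ ⊤ →
      Z = Z₁ * Z₂ → 0 < FGA.intNum k X 2 ![ClSub.idealMod Z₁, ClSub.idealMod Z₂] (Coh.structureModule X))
    {L : X.Modules} (hL : PicF.IsInvertible L)
    (hdeg : ∀ C : X.IdealSheafData, IsCurve C → Z ≤ C →
      Curv2.euler k X (CohB1.tensorMod (ClSub.quotMod C) L) - Curv2.euler k X (ClSub.quotMod C) ≤ 0)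
    {J E : X.IdealSheafData} (hJ : BlowUp.IsEffCartierIdeal J) (hE : BlowUp.IsEffCartierIdeal E) (hEne : E ≠ ⊤)
    (heq : Z = E * J) :
    Module.finrank k (Coh.HH X (CohB1.tensorMod (ClSub.quotMod Z) L) 0) ≤
        Module.finrank k (Coh.HH X (CohB1.tensorMod (ClSub.quotMod E) L) 0) ∧
      ∀ (h : Z ≤ E) (s : Coh.structureModule X ⟶ CohB1.tensorMod (ClSub.quotMod Z) L),
        s ≫ twRes L h = 0 → s = 0 := by
  haveI : IsNoetherian X := CurveCohLib.isNoetherian_of_proper (k := k)
  haveI := H23.FinCondSch.wellFoundedGT (X := X)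
  revert E hJ
  induction J using WellFoundedGT.induction with
  | ind J ih =>
    intro E hJ hE hEne heq
    by_cases htop : J = ⊤
    · have hEZ : Z = E := by rw [heq, htop, mul_comm, Scheme.IdealSheafData.top_mul]
      subst hEZ
      refine ⟨le_rfl, fun h s hs => ?_⟩
      rw [twRes_refl, Category.comp_id] at hs
      exact hs
    have hEi := Big.isInvertible_ideal hE
    have h0 := hnc E J hE hJ hEne htop heq
    rw [Big.NegDef.dot_symm k hdim hEi (Big.isInvertible_ideal hJ)] at h0
    let φ : X.IdealSheafData → ℤ := fun C =>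
      -FGA.intNum k X 2 ![ClSub.idealMod C, ClSub.idealMod E] (Coh.structureModule X)
    obtain ⟨C, hC, hle, hφ⟩ := exists_component_neg k hdim φ (fun A B hA hB => by
      simp only [φ]
      rw [intNum_mul k hdim hA hB hEi]
      ring) hJ (show φ J < 0 by simp only [φ]; omega)
    obtain ⟨J', hJ', hJe, hlt⟩ := exists_split k hdim hJ hC hle
    have hCE := isEffCartier_mul hC.1 hE
    have hne' : C * E ≠ ⊤ := fun h => ne_top_of_isCurve hC (top_le_iff.1 (h ▸ le_mul_left))
    have heq' : Z = C * E * J' := by rw [heq, hJe, mul_comm J' C, mul_comm C E, mul_assoc]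
    obtain ⟨ih1, ih2⟩ := ih J' hlt hJ' hCE hne' heq'
    obtain ⟨f, w, hS'⟩ := exists_seq_twist C E hC.1 hE hL
    haveI := hC.2.1
    simp only [φ] at hφ
    have hT : PicF.IsInvertible (CohB1.tensorMod (ClSub.idealMod E) L) := InvX.isInvertible_tensorMod hEi hL
    have hCi := Big.isInvertible_ideal hC.1
    have hadd : FGA.intNum k X 2 ![ClSub.idealMod C, CohB1.tensorMod (ClSub.idealMod E) L] (Coh.structureModule X) =
        FGA.intNum k X 2 ![ClSub.idealMod C, ClSub.idealMod E] (Coh.structureModule X) +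
          FGA.intNum k X 2 ![ClSub.idealMod C, L] (Coh.structureModule X) := by
      rw [Big.NegDef.dot_symm k hdim hCi hT, Big.NegDef.dot_symm k hdim hCi hEi, Big.NegDef.dot_symm k hdim hCi hL]
      have h := Big.pair_add k hdim.le hEi hL hCi
      rw [← Big.intNum_eq_pair k hdim.le hT hCi, ← Big.intNum_eq_pair k hdim.le hEi hCi,
        ← Big.intNum_eq_pair k hdim.le hL hCi] at h
      exact_mod_cast h
    rw [Big.NegDef.dot_eq_euler k hdim hCi hT, Big.NegDef.dot_eq_euler k hdim hCi hL] at hadd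
    have hdegC := hdeg C hC (heq' ▸ (le_mul_left.trans le_mul_left))
    have hneg : Curv2.euler k X (CohB1.tensorMod (ClSub.quotMod C) (CohB1.tensorMod (ClSub.idealMod E) L)) -
        Curv2.euler k X (ClSub.quotMod C) < 0 := by
      omega
    obtain ⟨c⟩ : Nonempty (CohB1.tensorMod (ClSub.quotMod C) (CohB1.tensorMod (ClSub.idealMod E) L) ≅
        CohB1.tensorMod (CohB1.tensorMod (ClSub.quotMod C) (ClSub.idealMod E)) L) := cl_eq_iff.1 (by
      rw [cl_tensor, cl_tensor, cl_tensor, cl_tensor, mul_assoc])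
    have hz : Subsingleton (Coh.HH X (CohB1.tensorMod (CohB1.tensorMod (ClSub.quotMod C) (ClSub.idealMod E)) L) 0) :=
      QCoh.subsingleton_HH_of_iso c 0 (subsingleton_quot_tensor k hC.2.2 hT hneg)
    have hc := AmpleVan.isCoh_invertible hL
    refine ⟨ih1.trans ?_, fun h s hs => ?_⟩
    · have h := finrank_seq k hS'
        (AmpleVan.isCoh_tensor (AmpleVan.isCoh_tensor (ParShLib.isCoh_quotMod C) (AmpleVan.isCoh_invertible hEi)) hc)
        (AmpleVan.isCoh_tensor (ParShLib.isCoh_quotMod _) hc) (AmpleVan.isCoh_tensor (ParShLib.isCoh_quotMod _) hc)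
      change (Module.finrank k (Coh.HH X (CohB1.tensorMod (CohB1.tensorMod (ClSub.quotMod C) (ClSub.idealMod E)) L) 0) : ℤ) +
        Module.finrank k (Coh.HH X (CohB1.tensorMod (ClSub.quotMod E) L) 0) -
          Module.finrank k (Coh.HH X (CohB1.tensorMod (ClSub.quotMod (C * E)) L) 0) = _ at h
      haveI := hz
      rw [Module.finrank_zero_of_subsingleton (M := Coh.HH X (CohB1.tensorMod (CohB1.tensorMod (ClSub.quotMod C) (ClSub.idealMod E)) L) 0)] at h
      omega
    · have hle' : Z ≤ C * E := heq' ▸ le_mul_left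
      refine ih2 hle' s ?_
      haveI : Mono f := hS'.mono_f
      have hs2 : (s ≫ twRes L hle') ≫ twRes L (le_mul_right : C * E ≤ E) = 0 := by
        rw [Category.assoc, twRes_comp]
        exact hs
      rw [← hS'.exact.lift_f _ hs2]
      show hS'.exact.lift _ hs2 ≫ _ = 0
      rw [hom_eq_zero hz (hS'.exact.lift _ hs2), zero_comp]

include hdim in
/-- A section of a nonpositive module on a numerically connected divisor generates it. -/
theorem finrank_h0_twist [IsAlgClosed k] {Z : X.IdealSheafData} (hZ : BlowUp.IsEffCartierIdeal Z) (hne : Z ≠ ⊤)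
    (hnc : ∀ Z₁ Z₂ : X.IdealSheafData, BlowUp.IsEffCartierIdeal Z₁ → BlowUp.IsEffCartierIdeal Z₂ → Z₁ ≠ ⊤ → Z₂ ≠ ⊤ →
      Z = Z₁ * Z₂ → 0 < FGA.intNum k X 2 ![ClSub.idealMod Z₁, ClSub.idealMod Z₂] (Coh.structureModule X))
    {L : X.Modules} (hL : PicF.IsInvertible L)
    (hdeg : ∀ C : X.IdealSheafData, IsCurve C → Z ≤ C →
      Curv2.euler k X (CohB1.tensorMod (ClSub.quotMod C) L) - Curv2.euler k X (ClSub.quotMod C) ≤ 0) :
    Module.finrank k (Coh.HH X (CohB1.tensorMod (ClSub.quotMod Z) L) 0) ≤ 1 ∧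
      (Module.finrank k (Coh.HH X (CohB1.tensorMod (ClSub.quotMod Z) L) 0) = 1 →
        Nonempty (CohB1.tensorMod (ClSub.quotMod Z) L ≅ ClSub.quotMod Z)) := by
  haveI : IsNoetherian X := CurveCohLib.isNoetherian_of_proper (k := k)
  have main : ∀ C : X.IdealSheafData, IsCurve C → ∀ hle : Z ≤ C,
      Module.finrank k (Coh.HH X (CohB1.tensorMod (ClSub.quotMod Z) L) 0) ≤ 1 ∧
      ∀ s : Coh.structureModule X ⟶ CohB1.tensorMod (ClSub.quotMod Z) L, s ≠ 0 →
        Epi (s ≫ twRes L hle) := fun C hC hle => by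
    obtain ⟨J, hJ, heq, -⟩ := exists_split k hdim hZ hC hle
    obtain ⟨h1, h2⟩ := restrict_injective k hdim hnc hL hdeg hJ hC.1 (ne_top_of_isCurve hC) (heq.trans (mul_comm _ _))
    obtain ⟨h3, h4⟩ := curve_section k hC hL (hdeg C hC hle)
    exact ⟨h1.trans h3, fun s hs => h4 _ fun h0 => hs (h2 hle s h0)⟩
  obtain ⟨C₀, hC₀, hle₀⟩ := exists_curve_le k hdim hZ hne
  refine ⟨(main C₀ hC₀ hle₀).1, fun h1 => ?_⟩
  obtain ⟨s, hs⟩ := CurveRR.exists_hom_ne_zero k (P := CohB1.tensorMod (ClSub.quotMod Z) L) (by omega)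
  refine nonempty_iso_of_surjective Z hL s fun x => ?_
  by_cases hx : x ∈ Z.support
  swap
  · intro m
    haveI := ParShLib.subsingleton_stalk_quotMod Z hx
    obtain ⟨e⟩ := nonempty_stalk_tw (ClSub.quotMod Z) hL x
    haveI : Subsingleton (ParShLib.stk (CohB1.tensorMod (ClSub.quotMod Z) L) x) := e.toEquiv.subsingleton
    exact ⟨0, Subsingleton.elim (α := ParShLib.stk (CohB1.tensorMod (ClSub.quotMod Z) L) x) _ _⟩
  obtain ⟨C, hC, hle, hxC⟩ := exists_curve_through k hdim hZ hx
  haveI := (main C hC hle).2 s hs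
  have hsurj : Function.Surjective ((DerSch.stalkFunctor X x).map (s ≫ twRes L hle)) :=
    (ModuleCat.epi_iff_surjective _).1 inferInstance
  have hr : Function.Surjective ((DerSch.stalkFunctor X x).map (twRes L hle)) :=
    (ModuleCat.epi_iff_surjective _).1 inferInstance
  let M := ParShLib.stk (CohB1.tensorMod (ClSub.quotMod Z) L) x
  let N := ParShLib.stk (CohB1.tensorMod (ClSub.quotMod C) L) x
  obtain ⟨eC⟩ := nonempty_stalk_tw (ClSub.quotMod C) hL x
  haveI : Nontrivial N := not_subsingleton_iff_nontrivial.1 fun h =>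
    CurveCohLib.GlobGen.nontrivial_stalk_quotMod C hxC (haveI : Subsingleton N := h; eC.symm.toEquiv.subsingleton)
  obtain ⟨m₀, hm₀⟩ := exists_gen_stalk Z hL x
  let σ : M := ParShLib.stkMap s x ((KFlatLib.stalkToPIso x).app (Coh.structureModule X) |>.toLinearEquiv.symm
    (KFlatLib.stalkUnitEquiv x 1))
  have hgen : ∀ a : ParShLib.stk (Coh.structureModule X) x, ∃ r : X.presheaf.stalk x,
      a = r • ((KFlatLib.stalkToPIso x).app (Coh.structureModule X) |>.toLinearEquiv.symm (KFlatLib.stalkUnitEquiv x 1)) := fun a => by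
    obtain ⟨r, hr⟩ := (KFlatLib.stalkUnitEquiv x).surjective (((KFlatLib.stalkToPIso x).app (Coh.structureModule X)).toLinearEquiv a)
    refine ⟨r, ?_⟩
    rw [← map_smul]
    have h2 : r • KFlatLib.stalkUnitEquiv x 1 = ((KFlatLib.stalkToPIso x).app (Coh.structureModule X)).toLinearEquiv a :=
      (((KFlatLib.stalkUnitEquiv x).map_smul r 1).symm.trans (congrArg _ (mul_one r))).trans hr
    exact ((congrArg _ h2).trans (LinearEquiv.symm_apply_apply _ a)).symm
  have hN : ∀ n : N, ∃ a : X.presheaf.stalk x, n = a • ParShLib.stkMap (twRes L hle) x σ := fun n => by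
    obtain ⟨a, rfl⟩ := hsurj n
    obtain ⟨r, rfl⟩ := hgen a
    refine ⟨r, ?_⟩
    rw [Functor.map_comp]
    exact (map_smul _ _ _).trans (congrArg (r • ·) rfl)
  intro m
  obtain ⟨a, rfl⟩ := surjective_of_cyclic (R := X.presheaf.stalk x) (M := M) (N := N) hm₀
    (ParShLib.stkMap (twRes L hle) x) hr hN m
  exact ⟨_, map_smul _ a _⟩

end Groth.Agent.SurfRR.Chain
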