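import Groth.Agent.SurfRR.ChainTwist

/-!
# Rational configurations of curves and their fundamental cycles
-/

set_option autoImplicit false
set_option linter.style.haveILetI false
set_option linter.unusedSectionVars false
set_option backward.isDefEq.respectTransparency false
set_option backward.isDefEq.respectTransparency.types false
set_option maxHeartbeats 1000000

universe u

open CategoryTheory CategoryTheory.Limits AlgebraicGeometry TopologicalSpace
open Groth.Agent.H23.PicMul

noncomputable section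

namespace Groth.Agent.SurfRR.Chain

open Groth.Agent ModPairLib

variable (k : Type u) [Field k] {X : Scheme.{u}} [X.Over (Spec (CommRingCat.of k))]
  [IsProper (X ↘ Spec (CommRingCat.of k))] [Smooth (X ↘ Spec (CommRingCat.of k))] [IsIntegral X]
  (hdim : topologicalKrullDim X = 2)

include k hdim in
/-- Cohomology of a twist of the structure sheaf of a divisor. -/
theorem euler_quot_twist {D : X.IdealSheafData} (hD : BlowUp.IsEffCartierIdeal D) {M : X.Modules}
    (hM : PicF.IsInvertible M) :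
    Curv2.euler k X (CohB1.tensorMod (ClSub.quotMod D) M) =
        (Module.finrank k (Coh.HH X (CohB1.tensorMod (ClSub.quotMod D) M) 0) : ℤ) -
          Module.finrank k (Coh.HH X (CohB1.tensorMod (ClSub.quotMod D) M) 1) ∧
      Subsingleton (Coh.HH X (CohB1.tensorMod (ClSub.quotMod D) M) 2) := by
  letI : D.subscheme.Over (Spec (CommRingCat.of k)) := ⟨D.subschemeι ≫ (X ↘ Spec (CommRingCat.of k))⟩
  haveI : IsProper (D.subscheme ↘ Spec (CommRingCat.of k)) :=
    inferInstanceAs (IsProper (D.subschemeι ≫ (X ↘ Spec (CommRingCat.of k))))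
  haveI : IsNoetherian D.subscheme := CurveCohLib.isNoetherian_of_proper (k := k)
  haveI : D.subscheme.IsSeparated :=
    ⟨by rw [← terminal.comp_from (D.subscheme ↘ Spec (CommRingCat.of k))]; infer_instance⟩
  have hd : topologicalKrullDim D.subscheme ≤ 1 := (dim_subscheme_le k hdim hD).trans Nat.cast_one.le
  let M' := (Scheme.Modules.pullback D.subschemeι).obj M
  have hM' : PicF.IsInvertible M' := PicClLib.isInvertible_pullback _ hM
  have hM'c := CurveDeg.isCoh_of_isInvertible hM'
  obtain ⟨e⟩ := AmpleDev.push_tensor_iso D.subschemeι hM (Coh.structureModule D.subscheme)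
  obtain ⟨φ⟩ : Nonempty (CohB1.tensorMod (Coh.structureModule D.subscheme) M' ≅ M') := cl_eq_iff.1 (by
    rw [cl_tensor, ← H23.PicMul.one_def, one_mul])
  let E := e ≪≫ (Coh.push D.subschemeι).mapIso φ
  have hn : ∀ n, Nonempty (Coh.HH D.subscheme M' n ≃ₗ[k] Coh.HH X (CohB1.tensorMod (ClSub.quotMod D) M) n) := fun n => by
    obtain ⟨l⟩ := PnCoh.exists_linearEquiv_push k D.subschemeι rfl hM'c.1 n
    obtain ⟨l'⟩ := ExtShX.nonempty_HH_equiv_of_iso (A := k) E n
    exact ⟨l.trans l'.symm⟩
  constructor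
  · obtain ⟨l0⟩ := hn 0
    obtain ⟨l1⟩ := hn 1
    have h : Curv2.euler k X (CohB1.tensorMod (ClSub.quotMod D) M) = Curv2.euler k D.subscheme M' :=
      (CurveCohLib.euler_congr E).trans (AmpleDev.euler_push k D.subschemeι rfl hM'c.1)
    rw [h, CurveReg.euler_eq k hd hM'c, l0.finrank_eq, l1.finrank_eq]
  · obtain ⟨l2⟩ := hn 2
    haveI := CurveReg.subsingleton_HH_ge_two hd hM'c.1 0
    exact l2.symm.toEquiv.subsingleton

include hdim in
theorem intNum_top {M : X.Modules} (hM : PicF.IsInvertible M) :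
    FGA.intNum k X 2 ![ClSub.idealMod (⊤ : X.IdealSheafData), M] (Coh.structureModule X) = 0 := by
  have h := intNum_mul k hdim (A := (⊤ : X.IdealSheafData)) (B := ⊤) BlowUpX.isEffCartier_top BlowUpX.isEffCartier_top hM
  rw [Scheme.IdealSheafData.top_mul] at h
  omega

include k hdim in
theorem isEffCartier_one : BlowUp.IsEffCartierIdeal (1 : X.IdealSheafData) := by
  rw [Scheme.IdealSheafData.one_eq_top]; exact BlowUpX.isEffCartier_top

include hdim in
/-- The pairing with a combination of curves. -/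
theorem intNum_prod {r : ℕ} {C : Fin r → X.IdealSheafData} (hC : ∀ i, IsCurve (C i)) (b : Fin r → ℕ)
    (t : Finset (Fin r)) :
    BlowUp.IsEffCartierIdeal (∏ i ∈ t, C i ^ b i) ∧
      ∀ M : X.Modules, PicF.IsInvertible M →
        FGA.intNum k X 2 ![ClSub.idealMod (∏ i ∈ t, C i ^ b i), M] (Coh.structureModule X) =
          ∑ i ∈ t, (b i : ℤ) * FGA.intNum k X 2 ![ClSub.idealMod (C i), M] (Coh.structureModule X) := by
  classical
  have hpow : ∀ (i : Fin r) (n : ℕ), BlowUp.IsEffCartierIdeal (C i ^ n) ∧ ∀ M : X.Modules, PicF.IsInvertible M →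
      FGA.intNum k X 2 ![ClSub.idealMod (C i ^ n), M] (Coh.structureModule X) =
        (n : ℤ) * FGA.intNum k X 2 ![ClSub.idealMod (C i), M] (Coh.structureModule X) := by
    intro i n
    induction n with
    | zero =>
      refine ⟨by rw [pow_zero]; exact isEffCartier_one k hdim, fun M hM => ?_⟩
      rw [pow_zero, Scheme.IdealSheafData.one_eq_top, intNum_top k hdim hM]
      simp
    | succ n ih =>
      refine ⟨by rw [pow_succ]; exact isEffCartier_mul ih.1 (hC i).1, fun M hM => ?_⟩
      rw [pow_succ, intNum_mul k hdim ih.1 (hC i).1 hM, ih.2 M hM]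
      push_cast
      ring
  induction t using Finset.induction with
  | empty =>
    refine ⟨by simpa using isEffCartier_one k hdim, fun M hM => ?_⟩
    rw [Finset.prod_empty, Scheme.IdealSheafData.one_eq_top, intNum_top k hdim hM, Finset.sum_empty]
  | insert i t hi ih =>
    rw [Finset.prod_insert hi]
    refine ⟨isEffCartier_mul (hpow i (b i)).1 ih.1, fun M hM => ?_⟩
    rw [intNum_mul k hdim (hpow i (b i)).1 ih.1 hM, (hpow i (b i)).2 M hM, ih.2 M hM, Finset.sum_insert hi]

include hdim in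
/-- A curve meets a divisor not containing it nonnegatively. -/
theorem curve_inter_nonneg {C D : X.IdealSheafData} (hC : IsCurve C) (hD : BlowUp.IsEffCartierIdeal D)
    (hnle : ¬ D ≤ C) : 0 ≤ FGA.intNum k X 2 ![ClSub.idealMod C, ClSub.idealMod D] (Coh.structureModule X) := by
  haveI := hC.2.1
  have hd : topologicalKrullDim C.subscheme = 1 :=
    (AmpleDev.dim_eq_one_of_closedImmersion C.subschemeι C.range_subschemeι).trans hC.2.2
  have hsub : ¬ Set.range C.subschemeι ⊆ (D.support : Set X) := fun h => hnle (by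
    rw [← CartierExt.radical_eq_of_isReduced C, ← Scheme.IdealSheafData.vanishingIdeal_support,
      ← Scheme.IdealSheafData.le_support_iff_le_vanishingIdeal]
    rw [C.range_subschemeι] at h
    exact h)
  have h := Big.RealForm.cdeg_idealMod_nonpos_of_not_subset k C.subschemeι hd hD hsub
  have h2 := Big.pair_curve_self k (Big.isInvertible_ideal hC.1) (Big.isInvertible_ideal hD)
  rw [← Big.intNum_eq_pair k hdim.le (Big.isInvertible_ideal hC.1) (Big.isInvertible_ideal hD)] at h2
  have : (0 : ℚ) ≤ (FGA.intNum k X 2 ![ClSub.idealMod C, ClSub.idealMod D] (Coh.structureModule X) : ℚ) := by linarith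
  exact_mod_cast this

omit [Smooth (X ↘ Spec (CommRingCat.of k))] in
include k hdim in
/-- Distinct curves do not contain one another. -/
theorem eq_of_curve_le {C D : X.IdealSheafData} (hC : IsCurve C) (hD : IsCurve D) (hle : C ≤ D) : C = D := by
  haveI := hC.2.1
  haveI := hD.2.1
  have hgen : ∀ (E : X.IdealSheafData) [IsIntegral E.subscheme],
      (E.support : Set X) = closure {E.subschemeι (genericPoint E.subscheme)} := fun E _ => by
    refine (E.range_subschemeι.symm.trans ?_)
    refine subset_antisymm ?_ ((IsClosedImmersion.base_closed (f := E.subschemeι)).isClosed_range.closure_subset_iff.2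
      (Set.singleton_subset_iff.2 ⟨_, rfl⟩))
    rintro _ ⟨z, rfl⟩
    exact ((genericPoint_specializes z).map E.subschemeι.continuous).mem_closure
  have hs : (D.support : Set X) ⊆ (C.support : Set X) := Scheme.IdealSheafData.support_antitone hle
  have he := Big.AffineBd.eq_of_mem_closure k hdim ((hgen D) ▸ hD.2.2) ((hgen C) ▸ hC.2.2)
    ((hgen C) ▸ hs ((hgen D).ge (subset_closure rfl)))
  have hsupp : C.support = D.support := Closeds.ext ((hgen C).trans ((he ▸ hgen D).symm))
  rw [← CartierExt.radical_eq_of_isReduced C, ← CartierExt.radical_eq_of_isReduced D,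
    ← Scheme.IdealSheafData.vanishingIdeal_support, ← Scheme.IdealSheafData.vanishingIdeal_support, hsupp]

variable {r : ℕ} {C : Fin r → X.IdealSheafData} (hC : ∀ i, IsCurve (C i)) (hinj : Function.Injective C)

include hdim hC hinj in
theorem inter_nonneg_of_ne {i j : Fin r} (h : i ≠ j) :
    0 ≤ FGA.intNum k X 2 ![ClSub.idealMod (C i), ClSub.idealMod (C j)] (Coh.structureModule X) :=
  curve_inter_nonneg k hdim (hC i) (hC j).1 fun hle => h (hinj (eq_of_curve_le k hdim (hC j) (hC i) hle)).symm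

include hdim hC hinj in
/-- A curve meeting a combination negatively is part of it. -/
theorem le_of_prod_neg (b : Fin r → ℕ) {i : Fin r}
    (h : FGA.intNum k X 2 ![ClSub.idealMod (C i), ClSub.idealMod (∏ j, C j ^ b j)] (Coh.structureModule X) < 0) :
    (∏ j, C j ^ b j) ≤ C i := by
  by_contra hle
  have := curve_inter_nonneg k hdim (hC i) (intNum_prod k hdim hC b Finset.univ).1 hle
  omega

/-- Every proper part can grow by a curve meeting it positively. -/
def Grows (Z : X.IdealSheafData) : Prop :=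
  ∀ E J : X.IdealSheafData, BlowUp.IsEffCartierIdeal E → BlowUp.IsEffCartierIdeal J → E ≠ ⊤ → J ≠ ⊤ → Z = E * J →
    ∃ D : X.IdealSheafData, IsCurve D ∧ J ≤ D ∧
      0 < FGA.intNum k X 2 ![ClSub.idealMod D, ClSub.idealMod E] (Coh.structureModule X)

include hdim in
/-- Characteristic and vanishing along a growing sequence. -/
theorem euler_grows [IsAlgClosed k] {Z : X.IdealSheafData} (hg : Grows k Z) {M : X.Modules}
    (hM : PicF.IsInvertible M)
    (hMdeg : ∀ D : X.IdealSheafData, IsCurve D → Z ≤ D →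
      0 ≤ Curv2.euler k X (CohB1.tensorMod (ClSub.quotMod D) M) - Curv2.euler k X (ClSub.quotMod D))
    {J E : X.IdealSheafData} (hJ : BlowUp.IsEffCartierIdeal J) (hE : BlowUp.IsEffCartierIdeal E) (hEne : E ≠ ⊤)
    (heq : Z = E * J) :
    Module.finrank k (Coh.HH X (ClSub.quotMod Z) 0) ≤ Module.finrank k (Coh.HH X (ClSub.quotMod E) 0) ∧
    Curv2.euler k X (ClSub.quotMod Z) ≤ Curv2.euler k X (ClSub.quotMod E) ∧
      (Curv2.euler k X (ClSub.quotMod Z) = Curv2.euler k X (ClSub.quotMod E) →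
        Subsingleton (Coh.HH X (CohB1.tensorMod (ClSub.quotMod E) M) 1) →
          Subsingleton (Coh.HH X (CohB1.tensorMod (ClSub.quotMod Z) M) 1)) := by
  haveI : IsNoetherian X := CurveCohLib.isNoetherian_of_proper (k := k)
  haveI := H23.FinCondSch.wellFoundedGT (X := X)
  revert E hJ
  induction J using WellFoundedGT.induction with
  | ind J ih =>
    intro E hJ hE hEne heq
    by_cases htop : J = ⊤
    · have hEZ : Z = E := by rw [heq, htop, mul_comm, Scheme.IdealSheafData.top_mul]
      subst hEZ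
      exact ⟨le_rfl, le_rfl, fun _ h => h⟩
    obtain ⟨C, hC, hle, hpos⟩ := hg E J hE hJ hEne htop heq
    obtain ⟨J', hJ', hJe, hlt⟩ := exists_split k hdim hJ hC hle
    have hCE := isEffCartier_mul hC.1 hE
    have hne' : C * E ≠ ⊤ := fun h => ne_top_of_isCurve hC (top_le_iff.1 (h ▸ le_mul_left))
    have heq' : Z = C * E * J' := by rw [heq, hJe, mul_comm J' C, mul_comm C E, mul_assoc]
    obtain ⟨ih0, ih1, ih2⟩ := ih J' hlt hJ' hCE hne' heq'
    haveI := hC.2.1
    have hCi := Big.isInvertible_ideal hC.1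
    have hEi := Big.isInvertible_ideal hE
    have hd := Big.NegDef.dot_eq_euler k hdim hCi hEi
    obtain ⟨hχ, hiff⟩ := curve_h1_iff k hC
    have hcQ := ParShLib.isCoh_quotMod (X := X)
    obtain ⟨f, g, w, hS, -⟩ := MulSeq.exists_seq C E hC.1 hE
    have hX1 := AmpleVan.isCoh_tensor (hcQ C) (AmpleVan.isCoh_invertible hEi)
    have hadd := CurveCohLib.euler_additive (k := k) hS hX1 (hcQ (C * E)) (hcQ E)
    change Curv2.euler k X (ClSub.quotMod (C * E)) =
      Curv2.euler k X (CohB1.tensorMod (ClSub.quotMod C) (ClSub.idealMod E)) + Curv2.euler k X (ClSub.quotMod E) at hadd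
    haveI := subsingleton_quot_tensor k hC.2.2 hEi (by omega)
    have h0 := finrank_seq k hS hX1 (hcQ (C * E)) (hcQ E)
    change (Module.finrank k (Coh.HH X (CohB1.tensorMod (ClSub.quotMod C) (ClSub.idealMod E)) 0) : ℤ) +
      Module.finrank k (Coh.HH X (ClSub.quotMod E) 0) - Module.finrank k (Coh.HH X (ClSub.quotMod (C * E)) 0) = _ at h0
    rw [Module.finrank_zero_of_subsingleton (M := Coh.HH X (CohB1.tensorMod (ClSub.quotMod C) (ClSub.idealMod E)) 0)] at h0
    refine ⟨by omega, by omega, fun heuler hE1 => ih2 (by omega) ?_⟩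
    have hT : PicF.IsInvertible (CohB1.tensorMod (ClSub.idealMod E) M) := InvX.isInvertible_tensorMod hEi hM
    have hsum : FGA.intNum k X 2 ![ClSub.idealMod C, CohB1.tensorMod (ClSub.idealMod E) M] (Coh.structureModule X) =
        FGA.intNum k X 2 ![ClSub.idealMod C, ClSub.idealMod E] (Coh.structureModule X) +
          FGA.intNum k X 2 ![ClSub.idealMod C, M] (Coh.structureModule X) := by
      rw [Big.NegDef.dot_symm k hdim hCi hT, Big.NegDef.dot_symm k hdim hCi hEi, Big.NegDef.dot_symm k hdim hCi hM]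
      have h := Big.pair_add k hdim.le hEi hM hCi
      rw [← Big.intNum_eq_pair k hdim.le hT hCi, ← Big.intNum_eq_pair k hdim.le hEi hCi,
        ← Big.intNum_eq_pair k hdim.le hM hCi] at h
      exact_mod_cast h
    rw [Big.NegDef.dot_eq_euler k hdim hCi hT, Big.NegDef.dot_eq_euler k hdim hCi hM] at hsum
    have hdC := hMdeg C hC (heq' ▸ (le_mul_left.trans le_mul_left))
    obtain ⟨c⟩ : Nonempty (CohB1.tensorMod (ClSub.quotMod C) (CohB1.tensorMod (ClSub.idealMod E) M) ≅
        CohB1.tensorMod (CohB1.tensorMod (ClSub.quotMod C) (ClSub.idealMod E)) M) := cl_eq_iff.1 (by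
      rw [cl_tensor, cl_tensor, cl_tensor, cl_tensor, mul_assoc])
    obtain ⟨f', w', hS'⟩ := exists_seq_twist C E hC.1 hE hM
    exact QCoh.subsingleton_HH_X₂ hS' 1 (QCoh.subsingleton_HH_of_iso c 1
      (subsingleton_h1_curve k hC.2.2 (hiff.2 (by omega)) hT (by omega))) hE1

variable (hconn : ∀ S : Finset (Fin r), S.Nonempty → Sᶜ.Nonempty →
    ∃ i ∈ S, ∃ j ∈ Sᶜ, FGA.intNum k X 2 ![ClSub.idealMod (C i), ClSub.idealMod (C j)] (Coh.structureModule X) ≠ 0)
  {Z₀ : X.IdealSheafData} (hZ₀ : BlowUp.IsEffCartierIdeal Z₀) (hne : Z₀ ≠ ⊤)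
  (hZ₀s : (Z₀.support : Set X) ⊆ ⋃ i, ((C i).support : Set X))
  (hdot : ∀ i, FGA.intNum k X 2 ![ClSub.idealMod (C i), ClSub.idealMod Z₀] (Coh.structureModule X) ≤ 0)

include hdim hC hinj hconn hZ₀ hne hZ₀s hdot in
/-- A fundamental cycle contains all curves. -/
theorem exists_full_mult : ∃ b : Fin r → ℕ, (∀ i, 1 ≤ b i) ∧ Z₀ = ∏ i, C i ^ b i := by
  classical
  haveI : IsNoetherian X := CurveCohLib.isNoetherian_of_proper (k := k)
  obtain ⟨b, hb⟩ := CartierExt.exists_prod_eq C (fun i => (hC i).1) (fun i => (hC i).2.1) Z₀ hZ₀ hZ₀s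
  refine ⟨b, fun i => ?_, hb⟩
  by_contra hi
  let S : Finset (Fin r) := Finset.univ.filter fun j => 0 < b j
  have hS : S.Nonempty := by
    by_contra h
    rw [Finset.not_nonempty_iff_eq_empty, Finset.filter_eq_empty_iff] at h
    refine hne ?_
    rw [hb, ← Scheme.IdealSheafData.one_eq_top]
    refine Finset.prod_eq_one fun j hj => ?_
    have := h hj
    rw [show b j = 0 by omega, pow_zero]
  obtain ⟨a, ha, c, hc, hac⟩ := hconn S hS ⟨i, by simp [S]; omega⟩
  simp only [S, Finset.mem_compl, Finset.mem_filter, Finset.mem_univ, true_and, not_lt, Nat.le_zero] at ha hc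
  have hca : c ≠ a := fun h => by rw [h] at hc; omega
  have hci := Big.isInvertible_ideal (hC c).1
  have hd := hdot c
  rw [Big.NegDef.dot_symm k hdim hci (Big.isInvertible_ideal hZ₀), hb, (intNum_prod k hdim hC b Finset.univ).2 _ hci] at hd
  refine absurd hd (not_le.2 (Finset.sum_pos' (fun j _ => ?_) ⟨a, Finset.mem_univ _, ?_⟩))
  · by_cases hj : j = c
    · subst hj
      rw [hc, Nat.cast_zero, zero_mul]
    · exact mul_nonneg (Nat.cast_nonneg _) (inter_nonneg_of_ne k hdim hC hinj hj)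
  · exact mul_pos (by exact_mod_cast ha)
      (lt_of_le_of_ne (inter_nonneg_of_ne k hdim hC hinj hca.symm) (Ne.symm hac))

variable (hmin : ∀ Z : X.IdealSheafData, BlowUp.IsEffCartierIdeal Z → Z ≠ ⊤ →
    (Z.support : Set X) ⊆ ⋃ i, ((C i).support : Set X) →
    (∀ i, FGA.intNum k X 2 ![ClSub.idealMod (C i), ClSub.idealMod Z] (Coh.structureModule X) ≤ 0) → Z ≤ Z₀)

include hdim hC hinj hZ₀ hne hZ₀s hdot hmin in
/-- The computation sequence. -/
theorem grows_fundamental : Grows k Z₀ := by
  classical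
  haveI : IsNoetherian X := CurveCohLib.isNoetherian_of_proper (k := k)
  intro E J hE hJ hEne hJne heq
  have hEs : (E.support : Set X) ⊆ ⋃ i, ((C i).support : Set X) :=
    fun y hy => hZ₀s (Scheme.IdealSheafData.support_antitone (heq ▸ le_mul_left) hy)
  have hJs : (J.support : Set X) ⊆ ⋃ i, ((C i).support : Set X) :=
    fun y hy => hZ₀s (Scheme.IdealSheafData.support_antitone (heq ▸ le_mul_right) hy)
  obtain ⟨i, hi⟩ : ∃ i, 0 < FGA.intNum k X 2 ![ClSub.idealMod (C i), ClSub.idealMod E] (Coh.structureModule X) := by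
    by_contra h
    push Not at h
    have h2 : E = Z₀ := le_antisymm (hmin E hE hEne hEs h) (heq ▸ le_mul_left)
    refine hJne ?_
    refine eq_of_mul_eq_mul (E := E) hE ?_
    rw [Scheme.IdealSheafData.top_mul, mul_comm, ← heq, h2]
  refine ⟨C i, hC i, ?_, hi⟩
  obtain ⟨a, ha⟩ := CartierExt.exists_prod_eq C (fun i => (hC i).1) (fun i => (hC i).2.1) J hJ hJs
  rw [ha]
  refine le_of_prod_neg k hdim hC hinj a ?_
  rw [← ha]
  have hci := Big.isInvertible_ideal (hC i).1
  have h := intNum_mul k hdim hE hJ hci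
  rw [← heq, ← Big.NegDef.dot_symm k hdim hci (Big.isInvertible_ideal hZ₀),
    ← Big.NegDef.dot_symm k hdim hci (Big.isInvertible_ideal hE),
    ← Big.NegDef.dot_symm k hdim hci (Big.isInvertible_ideal hJ)] at h
  have := hdot i
  omega

include hdim hC hinj hZ₀ hne hZ₀s hdot hmin in
/-- The characteristic of a fundamental cycle without first cohomology. -/
theorem euler_fundamental [IsAlgClosed k] (h1 : Subsingleton (Coh.HH X (ClSub.quotMod Z₀) 1)) :
    Curv2.euler k X (ClSub.quotMod Z₀) = 1 := by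
  haveI : IsNoetherian X := CurveCohLib.isNoetherian_of_proper (k := k)
  obtain ⟨D, J, hD, hJ, heq, -⟩ := exists_curve_split k hdim hZ₀ hne
  have hO : PicF.IsInvertible (Coh.structureModule X) := CurveDeg.isInvertible_structureModule
  obtain ⟨c⟩ : Nonempty (CohB1.tensorMod (ClSub.quotMod Z₀) (Coh.structureModule X) ≅ ClSub.quotMod Z₀) :=
    cl_eq_iff.1 (by rw [cl_tensor, ← H23.PicMul.one_def, mul_one])
  have h := (euler_grows k hdim (grows_fundamental k hdim hC hinj hZ₀ hne hZ₀s hdot hmin) hO (fun D' _ _ => by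
    obtain ⟨c'⟩ : Nonempty (CohB1.tensorMod (ClSub.quotMod D') (Coh.structureModule X) ≅ ClSub.quotMod D') :=
      cl_eq_iff.1 (by rw [cl_tensor, ← H23.PicMul.one_def, mul_one])
    rw [CurveCohLib.euler_congr c', sub_self]) hJ hD.1 (ne_top_of_isCurve hD) (heq.trans (mul_comm _ _))).1
  rw [finrank_h0_curve k hD] at h
  have h2 := (euler_quot_twist k hdim hZ₀ hO).1
  rw [CurveCohLib.euler_congr c] at h2
  obtain ⟨l0⟩ := ExtShX.nonempty_HH_equiv_of_iso (A := k) c 0
  obtain ⟨l1⟩ := ExtShX.nonempty_HH_equiv_of_iso (A := k) c 1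
  rw [l0.finrank_eq, l1.finrank_eq, Module.finrank_zero_of_subsingleton (M := Coh.HH X (ClSub.quotMod Z₀) 1)] at h2
  have := one_le_euler k hdim hZ₀ hne h1
  omega

include hdim hC hinj hZ₀ hne hZ₀s hdot hmin in
/-- Twists of a rational fundamental cycle. -/
theorem twist_fundamental [IsAlgClosed k] (hχ : Curv2.euler k X (ClSub.quotMod Z₀) = 1) (N : ℕ) :
    Subsingleton (Coh.HH X (CohB1.tensorMod (ClSub.quotMod Z₀) (CohB1.tensorPow (ClSub.idealMod Z₀) N)) 1) ∧
      (Module.finrank k (Coh.HH X (CohB1.tensorMod (ClSub.quotMod Z₀) (CohB1.tensorPow (ClSub.idealMod Z₀) N)) 0) : ℤ) =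
        -(N : ℤ) * FGA.intNum k X 2 ![ClSub.idealMod Z₀, ClSub.idealMod Z₀] (Coh.structureModule X) + 1 := by
  classical
  haveI : IsNoetherian X := CurveCohLib.isNoetherian_of_proper (k := k)
  let M := CohB1.tensorPow (ClSub.idealMod Z₀) N
  have hZi := Big.isInvertible_ideal hZ₀
  have hM : PicF.IsInvertible M := InvX.isInvertible_tensorPow hZi N
  have hpowdeg : ∀ {I : X.IdealSheafData}, BlowUp.IsEffCartierIdeal I →
      Curv2.euler k X (CohB1.tensorMod (ClSub.quotMod I) M) - Curv2.euler k X (ClSub.quotMod I) =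
        -(N : ℤ) * FGA.intNum k X 2 ![ClSub.idealMod I, ClSub.idealMod Z₀] (Coh.structureModule X) := by
    intro I hI
    have hIi := Big.isInvertible_ideal hI
    have h := Big.pair_pow k hdim.le hZi hIi N
    rw [← Big.intNum_eq_pair k hdim.le hM hIi, ← Big.intNum_eq_pair k hdim.le hZi hIi] at h
    have h' : FGA.intNum k X 2 ![M, ClSub.idealMod I] (Coh.structureModule X) =
        (N : ℤ) * FGA.intNum k X 2 ![ClSub.idealMod Z₀, ClSub.idealMod I] (Coh.structureModule X) := by exact_mod_cast h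
    rw [← Big.NegDef.dot_symm k hdim hIi hM, ← Big.NegDef.dot_symm k hdim hIi hZi,
      Big.NegDef.dot_eq_euler k hdim hIi hM] at h'
    rw [neg_mul, ← h']
    ring
  have hdeg : ∀ D : X.IdealSheafData, IsCurve D → Z₀ ≤ D →
      0 ≤ Curv2.euler k X (CohB1.tensorMod (ClSub.quotMod D) M) - Curv2.euler k X (ClSub.quotMod D) := by
    intro D hD hle
    rw [hpowdeg hD.1]
    obtain ⟨i, hi⟩ := CartierExt.exists_le_component hD.1 (ne_top_of_isCurve hD) C (fun i => (hC i).1)
      (fun i => (hC i).2.1) (fun y hy => hZ₀s (Scheme.IdealSheafData.support_antitone hle hy))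
    obtain rfl := eq_of_curve_le k hdim hD (hC i) hi
    exact mul_nonneg_of_nonpos_of_nonpos (neg_nonpos.2 (Nat.cast_nonneg _)) (hdot i)
  obtain ⟨D, J, hD, hJ, heq, -⟩ := exists_curve_split k hdim hZ₀ hne
  obtain ⟨-, h1, h2⟩ := euler_grows k hdim (grows_fundamental k hdim hC hinj hZ₀ hne hZ₀s hdot hmin) hM hdeg hJ hD.1
    (ne_top_of_isCurve hD) (heq.trans (mul_comm _ _))
  obtain ⟨hle1, hiff⟩ := curve_h1_iff k hD
  haveI := hD.2.1
  have hvan := h2 (by omega) (subsingleton_h1_curve k hD.2.2 (hiff.2 (by omega)) hM (by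
    have := hdeg D hD (heq ▸ le_mul_right)
    omega))
  refine ⟨hvan, ?_⟩
  have h3 := (euler_quot_twist k hdim hZ₀ hM).1
  haveI : Subsingleton (Coh.HH X (CohB1.tensorMod (ClSub.quotMod Z₀) M) 1) := hvan
  rw [Module.finrank_zero_of_subsingleton (M := Coh.HH X (CohB1.tensorMod (ClSub.quotMod Z₀) M) 1)] at h3
  have h4 := hpowdeg hZ₀
  simp only [M] at h3 h4 ⊢
  omega

include hdim hC hinj hconn hZ₀ hne hZ₀s hdot hmin in
/-- Artin's criterion. -/
theorem rational_of_euler [IsAlgClosed k] (hχ : Curv2.euler k X (ClSub.quotMod Z₀) = 1) {Z : X.IdealSheafData}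
    (hZ : BlowUp.IsEffCartierIdeal Z) (hZne : Z ≠ ⊤) (hZs : (Z.support : Set X) ⊆ ⋃ i, ((C i).support : Set X)) :
    Subsingleton (Coh.HH X (ClSub.quotMod Z) 1) := by
  classical
  haveI : IsNoetherian X := CurveCohLib.isNoetherian_of_proper (k := k)
  have hpowc : ∀ n : ℕ, BlowUp.IsEffCartierIdeal (Z₀ ^ (n + 1)) ∧
      PicF.cl (ClSub.idealMod (Z₀ ^ (n + 1))) = PicF.cl (CohB1.tensorPow (ClSub.idealMod Z₀) (n + 1)) := by
    intro n
    induction n with
    | zero => exact ⟨by rw [pow_one]; exact hZ₀, by rw [pow_one, cl_tensorPow, pow_one]⟩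
    | succ n ih =>
      refine ⟨by rw [pow_succ]; exact isEffCartier_mul ih.1 hZ₀, ?_⟩
      rw [pow_succ, cl_idealMod_mul ih.1 hZ₀, ih.2, cl_tensorPow, cl_tensorPow, ← pow_succ]
  have hpow : ∀ n : ℕ, Subsingleton (Coh.HH X (ClSub.quotMod (Z₀ ^ (n + 1))) 1) := by
    intro n
    induction n with
    | zero =>
      rw [pow_one]
      obtain ⟨c⟩ : Nonempty (CohB1.tensorMod (ClSub.quotMod Z₀) (CohB1.tensorPow (ClSub.idealMod Z₀) 0) ≅ ClSub.quotMod Z₀) :=
        cl_eq_iff.1 (by rw [cl_tensor, cl_tensorPow, pow_zero, mul_one])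
      exact QCoh.subsingleton_HH_of_iso c 1 (twist_fundamental k hdim hC hinj hZ₀ hne hZ₀s hdot hmin hχ 0).1
    | succ n ih =>
      rw [pow_succ']
      obtain ⟨f, g, w, hS, -⟩ := MulSeq.exists_seq Z₀ (Z₀ ^ (n + 1)) hZ₀ (hpowc n).1
      obtain ⟨c⟩ : Nonempty (CohB1.tensorMod (ClSub.quotMod Z₀) (CohB1.tensorPow (ClSub.idealMod Z₀) (n + 1)) ≅
          CohB1.tensorMod (ClSub.quotMod Z₀) (ClSub.idealMod (Z₀ ^ (n + 1)))) := cl_eq_iff.1 (by
        rw [cl_tensor, cl_tensor, (hpowc n).2])
      exact QCoh.subsingleton_HH_X₂ hS 1 (QCoh.subsingleton_HH_of_iso c 1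
        (twist_fundamental k hdim hC hinj hZ₀ hne hZ₀s hdot hmin hχ (n + 1)).1) ih
  obtain ⟨b, hb1, hb⟩ := exists_full_mult k hdim hC hinj hconn hZ₀ hne hZ₀s hdot
  obtain ⟨a, ha⟩ := CartierExt.exists_prod_eq C (fun i => (hC i).1) (fun i => (hC i).2.1) Z hZ hZs
  let n := ∑ i, a i
  let R : X.IdealSheafData := ∏ i, C i ^ ((n + 1) * b i - a i)
  have hR := (intNum_prod k hdim hC (fun i => (n + 1) * b i - a i) Finset.univ).1
  have hRZ : Z₀ ^ (n + 1) = R * Z := by
    rw [hb, ha, ← Finset.prod_pow, ← Finset.prod_mul_distrib]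
    refine Finset.prod_congr rfl fun i _ => ?_
    rw [← pow_mul, ← pow_add, mul_comm (b i)]
    congr 1
    have h1 : a i ≤ n := Finset.single_le_sum (f := a) (fun _ _ => Nat.zero_le _) (Finset.mem_univ i)
    have h2 : n + 1 ≤ (n + 1) * b i := Nat.le_mul_of_pos_right _ (hb1 i)
    omega
  obtain ⟨f, g, w, hS, -⟩ := MulSeq.exists_seq R Z hR hZ
  have hn := hpow n
  rw [hRZ] at hn
  exact PnCoh.Finite.subsingleton_HH_X₃ hS 1 hn (euler_quot_twist k hdim hR (Big.isInvertible_ideal hZ)).2

end Groth.Agent.SurfRR.Chain
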