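import Groth.Agent.SurfRR.Basic
import Groth.Agent.AVEuler.EtaleCover
import Groth.Agent.SchTop.Closed
import Groth.Agent.H23.TopDim
import Groth.Agent.S15540
import Groth.Agent.S11924

/-!
# Riemann–Roch duality on smooth proper surfaces, possibly disconnected
-/

set_option linter.style.haveILetI false
set_option linter.unusedSectionVars false
set_option backward.isDefEq.respectTransparency false
set_option backward.isDefEq.respectTransparency.types false

universe u

open CategoryTheory CategoryTheory.Limits AlgebraicGeometry TopologicalSpace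
open Groth.Agent.H23.PicMul

noncomputable section

namespace Groth.Agent.SurfRR

open Groth.Agent

variable (k : Type u) [Field k]

/-- Duality of Euler characteristics on a connected smooth proper surface. -/
theorem euler_dual_integral {X : Scheme.{u}} [X.Over (Spec (CommRingCat.of k))]
    [IsProper (X ↘ Spec (CommRingCat.of k))] [Smooth (X ↘ Spec (CommRingCat.of k))] [IsIntegral X]
    (hdim : topologicalKrullDim X = 2) {W : X.Modules}
    (hW : ExtPow.IsExtPow 2 (Omega.sheaf (X ↘ Spec (CommRingCat.of k))) W)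
    (L D : X.Modules) (hL : PicF.IsInvertible L) (hLD : PicF.cl L * PicF.cl D = 1) :
    Curv2.euler k X (CohB1.tensorMod W D) = Curv2.euler k X L := by
  haveI : CompactSpace X := QuasiCompact.compactSpace_of_compactSpace (X ↘ Spec (CommRingCat.of k))
  have hreg : ∀ x : X, IsRegularLocalRing (X.presheaf.stalk x) := fun x =>
    GrpSchLib.isRegularLocalRing_stalk_of_smooth (X ↘ Spec (CommRingCat.of k)) x
  obtain ⟨_, ⟨U, hU, rfl⟩, hxU, -⟩ := X.isBasis_affineOpens.exists_subset_of_mem_open
    (Set.mem_univ (genericPoint X)) isOpen_univ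
  obtain ⟨-, -, -, M, hM, -⟩ := Big.AffineBd.exists_ample_boundary k hdim hreg ⟨U, hU⟩ ⟨_, hxU⟩
  obtain ⟨N, ι, hι, hι'⟩ := AmpleEmbed.exists_closedImmersion (X ↘ Spec (CommRingCat.of k)) hM
  haveI := hι
  exact euler_dual_smooth hdim ι hι' hW L D hL hLD

variable {X : Scheme.{u}} [X.Over (Spec (CommRingCat.of k))]
  [IsProper (X ↘ Spec (CommRingCat.of k))] [Smooth (X ↘ Spec (CommRingCat.of k))]

include k in
theorem isOpen_component {Z : Set X} (hZ : Z ∈ irreducibleComponents X) : IsOpen Z := by
  haveI : IsNoetherian X := CurveCohLib.isNoetherian_of_proper (k := k)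
  exact SchTop.isOpen_component_of_finite NoetherianSpace.finite_irreducibleComponents
    (fun x => by
      haveI := GrpSchLib.isRegularLocalRing_stalk_of_smooth (X ↘ Spec (CommRingCat.of k)) x
      exact RegLoc6.isDomain_of_isRegularLocalRing _) hZ

theorem smooth_ι (U : X.Opens) : Smooth (U.ι ≫ (X ↘ Spec (CommRingCat.of k))) := inferInstance

/-- The component `Z` as an open subscheme. -/
theorem component_facts (hdim : ∀ Z ∈ irreducibleComponents X, topologicalKrullDim Z = 2)
    {Z : Set X} (hZ : Z ∈ irreducibleComponents X) (U : X.Opens) (hU : (U : Set X) = Z) :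
    IsIntegral (U : Scheme.{u}) ∧ topologicalKrullDim (U : Scheme.{u}) = 2 ∧
      IsProper (U.ι ≫ (X ↘ Spec (CommRingCat.of k))) := by
  subst hU
  haveI : Nonempty (U : Scheme.{u}) := hZ.1.nonempty.to_subtype
  haveI : IrreducibleSpace (U : Scheme.{u}) := by
    haveI : PreirreducibleSpace (↥(U : Set X)) := Subtype.preirreducibleSpace hZ.1.2
    exact @IrreducibleSpace.mk _ _ ‹PreirreducibleSpace (↥(U : Set X))› ‹_›
  haveI : Smooth (U.ι ≫ (X ↘ Spec (CommRingCat.of k))) := inferInstance
  haveI : IsReduced (U : Scheme.{u}) := GrpSchLib.isReduced_of_smooth_field (U.ι ≫ (X ↘ Spec (CommRingCat.of k)))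
  haveI : IsClosedImmersion U.ι := by
    refine .of_isPreimmersion _ ?_
    rw [Scheme.Opens.range_ι]
    exact isClosed_of_mem_irreducibleComponents _ hZ
  exact ⟨isIntegral_of_irreducibleSpace_of_isReduced _, hdim _ hZ, inferInstance⟩

theorem smoothOfRelativeDimension_two_of_components
    (hdim : ∀ Z ∈ irreducibleComponents X, topologicalKrullDim Z = 2) :
    SmoothOfRelativeDimension 2 (X ↘ Spec (CommRingCat.of k)) := by
  let Uc : irreducibleComponents X → X.Opens := fun Z => ⟨Z.1, isOpen_component k Z.2⟩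
  have hc : ⨆ Z, Uc Z = ⊤ := top_unique fun x _ =>
    Opens.mem_iSup.2 ⟨⟨_, irreducibleComponent_mem_irreducibleComponents x⟩, mem_irreducibleComponent⟩
  refine IsZariskiLocalAtSource.of_iSup_eq_top (P := @SmoothOfRelativeDimension 2) Uc hc fun Z => ?_
  obtain ⟨hi, hd, hp⟩ := component_facts k hdim Z.2 (Uc Z) rfl
  letI : (Uc Z : Scheme.{u}).Over (Spec (CommRingCat.of k)) := ⟨(Uc Z).ι ≫ (X ↘ Spec (CommRingCat.of k))⟩
  haveI : IsProper ((Uc Z : Scheme.{u}) ↘ Spec (CommRingCat.of k)) := hp
  haveI : Smooth ((Uc Z : Scheme.{u}) ↘ Spec (CommRingCat.of k)) :=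
    inferInstanceAs (Smooth ((Uc Z).ι ≫ (X ↘ Spec (CommRingCat.of k))))
  exact SurfStab.smoothOfRelativeDimension_two (k := k) hd

theorem isExtPow_restrict {W : X.Modules} (hW : ExtPow.IsExtPow 2 (Omega.sheaf (X ↘ Spec (CommRingCat.of k))) W)
    (U : X.Opens) :
    ExtPow.IsExtPow 2 (Omega.sheaf (U.ι ≫ (X ↘ Spec (CommRingCat.of k)))) ((Scheme.Modules.pullback U.ι).obj W) :=
  S15540.result X (Spec (CommRingCat.of k)) U (Spec (CommRingCat.of k)) (X ↘ Spec (CommRingCat.of k))
    (U.ι ≫ (X ↘ Spec (CommRingCat.of k))) U.ι (𝟙 _) (Category.comp_id _).symm 2 W hW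

theorem subsingleton_irreducible_of_ncard {Y : Type*} [TopologicalSpace Y] (hfin : (irreducibleComponents Y).Finite)
    (h : (irreducibleComponents Y).ncard ≤ 1) : PreirreducibleSpace Y := by
  rcases isEmpty_or_nonempty Y with he | ⟨⟨y⟩⟩
  · exact ⟨fun u v _ _ hu _ => by obtain ⟨x, -⟩ := hu; exact (he.false x).elim⟩
  · have hy := irreducibleComponent_mem_irreducibleComponents y
    have hsub := (Set.ncard_le_one hfin).1 h
    have : irreducibleComponent y = Set.univ := Set.eq_univ_of_forall fun x => by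
      rw [hsub _ hy _ (irreducibleComponent_mem_irreducibleComponents x)]
      exact mem_irreducibleComponent
    exact ⟨this ▸ isIrreducible_irreducibleComponent.2⟩

/-- Duality of Euler characteristics on a smooth proper surface with any number of components. -/
theorem euler_dual_components : ∀ (n : ℕ) (X : Scheme.{u}) (o : X.Over (Spec (CommRingCat.of k))),
    letI := o
    IsProper (X ↘ Spec (CommRingCat.of k)) → Smooth (X ↘ Spec (CommRingCat.of k)) →
    (irreducibleComponents X).ncard ≤ n → (∀ Z ∈ irreducibleComponents X, topologicalKrullDim Z = 2) →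
    ∀ W : X.Modules, ExtPow.IsExtPow 2 (Omega.sheaf (X ↘ Spec (CommRingCat.of k))) W →
    ∀ L D : X.Modules, PicF.IsInvertible L → PicF.IsInvertible D → PicF.cl L * PicF.cl D = 1 →
      Curv2.euler k X (CohB1.tensorMod W D) = Curv2.euler k X L := by
  intro n
  induction n using Nat.strong_induction_on with
  | _ n ih =>
    intro X o hp hs hn hdim W hW L D hL hD hLD
    letI := o
    haveI := hp
    haveI := hs
    haveI : IsNoetherian X := CurveCohLib.isNoetherian_of_proper (k := k)
    have hfin : (irreducibleComponents X).Finite := NoetherianSpace.finite_irreducibleComponents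
    rcases isEmpty_or_nonempty X with he | ⟨⟨x⟩⟩
    · haveI := he
      have h0 : ∀ M : X.Modules, Curv2.euler k X M = 0 := fun M => by
        rw [CurveCohLib.euler_eq_sum (N := 0) fun i _ => S11924.subsingleton_HH k M i]
        rfl
      rw [h0, h0]
    let Z := irreducibleComponent x
    have hZ : Z ∈ irreducibleComponents X := irreducibleComponent_mem_irreducibleComponents x
    have hZo := isOpen_component k hZ
    let U : X.Opens := ⟨Z, hZo⟩
    obtain ⟨hUi, hUd, hUp⟩ := component_facts k hdim hZ U rfl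
    let V : X.Opens := ⟨Zᶜ, (isClosed_of_mem_irreducibleComponents Z hZ).isOpen_compl⟩
    have hUV : Disjoint (U : Set X) V := disjoint_compl_right
    have hcov : (U : Set X) ∪ V = Set.univ := Set.union_compl_self Z
    haveI := AVEuler.isClosedImmersion_ι hUV.symm ((Set.union_comm _ _).trans hcov)
    have hWi : PicF.IsInvertible W := by
      haveI := smoothOfRelativeDimension_two_of_components k hdim
      exact TopDiff.isInvertible_of_isExtPow (TopDiff.isFinLocFreeOfRank_omega (X ↘ Spec (CommRingCat.of k)) 2) hW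
    have hVcard : (irreducibleComponents (V : Scheme.{u})).ncard < n := by
      refine lt_of_lt_of_le ?_ hn
      have hcl : ∀ T ∈ irreducibleComponents (V : Scheme.{u}),
          closure (V.ι '' T) ∈ irreducibleComponents X \ {Z} ∧ V.ι ⁻¹' closure (V.ι '' T) = T := by
        intro T hT
        have hirr := (hT.1.image V.ι V.ι.continuous.continuousOn).closure
        obtain ⟨Z', hZ', hsub⟩ := exists_mem_irreducibleComponents_subset_of_isIrreducible _ hirr
        have himg : V.ι '' T ⊆ Z' := subset_closure.trans hsub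
        have hpre : V.ι ⁻¹' Z' ∈ irreducibleComponents (V : Scheme.{u}) :=
          preimage_mem_irreducibleComponents hZ' V.ι.isOpenEmbedding
            (let ⟨t, ht⟩ := hT.1.1; ⟨V.ι t, himg ⟨t, ht, rfl⟩, t, rfl⟩)
        have heq : V.ι ⁻¹' Z' = T :=
          (hT.2 hpre.1 (Set.image_subset_iff.1 himg)).antisymm (Set.image_subset_iff.1 himg)
        have hZ'eq : closure (V.ι '' T) = Z' := by
          rw [← heq]
          exact closure_image_preimage_of_isPreirreducible V.ι V.ι.isOpenEmbedding.isOpenMap Z'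
            (heq ▸ hT.1.1) hZ'.1.2 (isClosed_of_mem_irreducibleComponents Z' hZ')
        refine ⟨⟨hZ'eq ▸ hZ', fun h => ?_⟩, hZ'eq ▸ heq⟩
        obtain ⟨t, ht⟩ := hT.1.1
        exact t.2 (by rw [← (h : closure (V.ι '' T) = Z)]; exact subset_closure ⟨t, ht, rfl⟩)
      refine lt_of_le_of_lt (Set.ncard_le_ncard_of_injOn (fun T => closure (V.ι '' T)) (fun T hT => (hcl T hT).1)
        (fun T hT T' hT' (h : closure (V.ι '' T) = closure (V.ι '' T')) => by rw [← (hcl T hT).2, h, (hcl T' hT').2]) hfin.sdiff) ?_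
      exact Set.ncard_sdiff_singleton_lt_of_mem hZ hfin
    have hVdim : ∀ T ∈ irreducibleComponents (V : Scheme.{u}), topologicalKrullDim T = 2 := by
      intro T hT
      obtain ⟨Z', hZ', hsub⟩ := exists_mem_irreducibleComponents_subset_of_isIrreducible _
        ((hT.1.image V.ι V.ι.continuous.continuousOn))
      have hne : Z' ≠ Z := fun h => by
        obtain ⟨t, ht⟩ := hT.1.1
        exact t.2 (h ▸ hsub ⟨t, ht, rfl⟩)
      have hZ'V : Z' ⊆ (V : Set X) := fun y hy hyZ => hne (by
        haveI := GrpSchLib.isRegularLocalRing_stalk_of_smooth (X ↘ Spec (CommRingCat.of k)) y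
        haveI := RegLoc6.isDomain_of_isRegularLocalRing (X.presheaf.stalk y)
        exact SchTop.irreducibleComponents_eq y hZ' hZ hy hyZ)
      have heq : T = V.ι ⁻¹' Z' := (Set.image_subset_iff.1 hsub).antisymm
        (hT.2 (preimage_mem_irreducibleComponents hZ' V.ι.isOpenEmbedding
          (let ⟨t, ht⟩ := hT.1.1; ⟨V.ι t, hsub ⟨t, ht, rfl⟩, t, rfl⟩)).1 (Set.image_subset_iff.1 hsub))
      subst heq
      rw [← hdim Z' hZ']
      have hemb := V.ι.isOpenEmbedding.isEmbedding.restrictPreimage Z'
      have hsurj : Function.Surjective (Z'.restrictPreimage V.ι) := fun ⟨y, hy⟩ =>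
        ⟨⟨⟨y, hZ'V hy⟩, hy⟩, rfl⟩
      exact IsHomeomorph.topologicalKrullDim_eq _ ⟨hemb.continuous,
        (V.ι.isOpenEmbedding.isOpenMap.restrictPreimage Z'), hemb.injective, hsurj⟩
    letI : (U : Scheme.{u}).Over (Spec (CommRingCat.of k)) := ⟨U.ι ≫ (X ↘ Spec (CommRingCat.of k))⟩
    letI : (V : Scheme.{u}).Over (Spec (CommRingCat.of k)) := ⟨V.ι ≫ (X ↘ Spec (CommRingCat.of k))⟩
    haveI : IsProper ((U : Scheme.{u}) ↘ Spec (CommRingCat.of k)) := hUp
    haveI : Smooth ((U : Scheme.{u}) ↘ Spec (CommRingCat.of k)) :=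
      inferInstanceAs (Smooth (U.ι ≫ (X ↘ Spec (CommRingCat.of k))))
    have hVp : IsProper ((V : Scheme.{u}) ↘ Spec (CommRingCat.of k)) :=
      inferInstanceAs (IsProper (V.ι ≫ (X ↘ Spec (CommRingCat.of k))))
    have hVs : Smooth ((V : Scheme.{u}) ↘ Spec (CommRingCat.of k)) :=
      inferInstanceAs (Smooth (V.ι ≫ (X ↘ Spec (CommRingCat.of k))))
    have hcl : ∀ S : X.Opens, PicF.cl ((Scheme.Modules.pullback S.ι).obj L) *
        PicF.cl ((Scheme.Modules.pullback S.ι).obj D) = 1 := fun S => by
      have h := congrArg (PicF.pullCl S.ι) hLD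
      rw [H23.PicMul.pullCl_mul, H23.PicMul.pullCl_one] at h
      exact h
    have hr : ∀ (S : X.Opens) [S' : (S : Scheme.{u}).Over (Spec (CommRingCat.of k))]
        [IsProper ((S : Scheme.{u}) ↘ Spec (CommRingCat.of k))] (A B : X.Modules),
        Curv2.euler k (S : Scheme.{u}) ((CohB1.tensorMod A B).restrict S.ι) =
          Curv2.euler k (S : Scheme.{u}) (CohB1.tensorMod ((Scheme.Modules.pullback S.ι).obj A)
            ((Scheme.Modules.pullback S.ι).obj B)) := fun S _ _ A B => by
      obtain ⟨e⟩ : Nonempty ((Scheme.Modules.pullback S.ι).obj (CohB1.tensorMod A B) ≅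
          CohB1.tensorMod ((Scheme.Modules.pullback S.ι).obj A) ((Scheme.Modules.pullback S.ι).obj B)) :=
        cl_eq_iff.1 (by
          have h := H23.PicMul.pullCl_mul S.ι (PicF.cl A) (PicF.cl B)
          exact h)
      exact Euler.euler_congr k ((Scheme.Modules.restrictFunctorIsoPullback S.ι).app _ ≪≫ e)
    have hr1 : ∀ (S : X.Opens) [S' : (S : Scheme.{u}).Over (Spec (CommRingCat.of k))]
        [IsProper ((S : Scheme.{u}) ↘ Spec (CommRingCat.of k))] (A : X.Modules),
        Curv2.euler k (S : Scheme.{u}) (A.restrict S.ι) =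
          Curv2.euler k (S : Scheme.{u}) ((Scheme.Modules.pullback S.ι).obj A) := fun S _ _ A =>
      Euler.euler_congr k ((Scheme.Modules.restrictFunctorIsoPullback S.ι).app _)
    rw [AVEuler.euler_clopen k hUV hcov (AmpleVan.isCoh_invertible (InvX.isInvertible_tensorMod hWi hD)),
      AVEuler.euler_clopen k hUV hcov (AmpleVan.isCoh_invertible hL)]
    haveI := hUi
    change Curv2.euler k (U : Scheme.{u}) _ + Curv2.euler k (V : Scheme.{u}) _ =
      Curv2.euler k (U : Scheme.{u}) _ + Curv2.euler k (V : Scheme.{u}) _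
    haveI := hVp
    rw [hr U, hr V, hr1 U, hr1 V]
    rw [euler_dual_integral k hUd (isExtPow_restrict k hW U) _ _ (PicClLib.isInvertible_pullback U.ι hL) (hcl U),
      ih _ hVcard (V : Scheme.{u}) inferInstance hVp hVs le_rfl hVdim _ (isExtPow_restrict k hW V) _ _
        (PicClLib.isInvertible_pullback V.ι hL) (PicClLib.isInvertible_pullback V.ι hD) (hcl V)]

/-- Riemann–Roch on a smooth proper surface over any field, with any number of components. -/
theorem rr_components (hdim : ∀ Z ∈ irreducibleComponents X, topologicalKrullDim Z = 2)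
    {W : X.Modules} (hW : ExtPow.IsExtPow 2 (Omega.sheaf (X ↘ Spec (CommRingCat.of k))) W)
    {L : X.Modules} (hL : PicF.IsInvertible L) :
    2 * Curv2.euler k X L = FGA.intNum k X 2 ![L, L] (Coh.structureModule X) -
      FGA.intNum k X 2 ![L, W] (Coh.structureModule X) + 2 * Curv2.euler k X (Coh.structureModule X) := by
  have hd : topologicalKrullDim X ≤ 2 := by
    rw [H23.TopDim.dim_eq_iSup_irreducibleComponents]
    exact iSup₂_le fun Z hZ => (hdim Z hZ).le
  haveI := smoothOfRelativeDimension_two_of_components k hdim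
  exact rr_of_dual hd (TopDiff.isInvertible_of_isExtPow
      (TopDiff.isFinLocFreeOfRank_omega (X ↘ Spec (CommRingCat.of k)) 2) hW)
    (fun L D hL hD hLD => euler_dual_components k _ X _ inferInstance inferInstance le_rfl hdim W hW L D hL hD hLD) hL

end Groth.Agent.SurfRR
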